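import Cfsg.Agent.Lib.TwelveCent.Symp
import Cfsg.Agent.Lib.FischerClass.Models
import Cfsg.Agent.Lib.FischerClass.FromO2

/-!
The case of seven conjugates: the class is one of 3-transpositions with lines of three points and the
group is the symplectic group of dimension six over the field of two elements.
-/

set_option autoImplicit false
set_option linter.style.haveILetI false
set_option linter.unusedSectionVars false

namespace CfsgLib.TwelveCent

open Equiv
open CfsgLib.ThreeTransp CfsgLib.ThreeTransp.StarPairs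

/-- the subgroup generated by the thirty elements -/
def LX : Subgroup P12 := Subgroup.closure (Set.range lE)

theorem lE_LX (i : Fin 30) : lE i ∈ LX := Subgroup.subset_closure ⟨i, rfl⟩

/-- the flips of an even set of the six pairs, by five digits -/
def flipW (n : ℕ) : P12 :=
  (List.range 5).foldl (fun g j => bif n.testBit j then g * (lE ⟨[0, 10, 18, 24, 28].getD j 0 % 30, Nat.mod_lt _ (by norm_num)⟩ *
    lE ⟨([0, 10, 18, 24, 28].getD j 0 + 1) % 30, Nat.mod_lt _ (by norm_num)⟩) else g) 1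

theorem flipW_mem (n : ℕ) : flipW n ∈ LX := by
  unfold flipW
  have : ∀ (l : List ℕ) (g : P12), g ∈ LX → l.foldl (fun g j => bif n.testBit j then g *
      (lE ⟨[0, 10, 18, 24, 28].getD j 0 % 30, Nat.mod_lt _ (by norm_num)⟩ *
        lE ⟨([0, 10, 18, 24, 28].getD j 0 + 1) % 30, Nat.mod_lt _ (by norm_num)⟩) else g) g ∈ LX := by
    intro l
    induction l with
    | nil => intro g hg; exact hg
    | cons j l ih =>
      intro g hg
      refine ih _ ?_
      show (bif n.testBit j then g * _ else g) ∈ LX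
      cases n.testBit j
      · exact hg
      · exact mul_mem hg (mul_mem (lE_LX _) (lE_LX _))
  exact this _ _ (one_mem _)

theorem flipW_table : ((List.range 32).all fun n => (List.range 6).all fun b =>
    (flipW n ⟨2 * (b % 6), by omega⟩).1 / 2 == b % 6) = true := by decide +kernel

theorem swap_table : ∀ i j : Fin 6, i ≠ j → ∃ k : Fin 30, blk ⟨lE k, lE_mem k⟩ = swap i j := by
  have h : ((List.finRange 6).all fun i => (List.finRange 6).all fun j => i == j ||
      (List.finRange 30).any fun k => (List.finRange 6).all fun b =>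
        (lE k ⟨2 * b.1, by omega⟩).1 / 2 == (swap i j b).1) = true := by decide +kernel
  intro i j hij
  have h' := List.all_eq_true.1 (List.all_eq_true.1 h i (List.mem_finRange i)) j (List.mem_finRange j)
  rw [Bool.or_eq_true, beq_iff_eq, or_iff_right hij] at h'
  obtain ⟨k, -, hk⟩ := List.any_eq_true.1 h'
  refine ⟨k, Equiv.ext fun b => Fin.ext ?_⟩
  exact beq_iff_eq.1 (List.all_eq_true.1 hk b (List.mem_finRange b))

theorem pow12 : ∀ e : Fin 6 → Bool, (List.ofFn e).count true % 2 = 0 →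
    ∃ n : Fin 32, ∀ b : Fin 6, (flipW n.1 ⟨2 * b.1, by omega⟩).1 = 2 * b.1 + (e b).toNat := by decide +kernel

theorem even_cases : ∀ x : Fin 12, ∃ b : Fin 6, x = ⟨2 * b.1, by omega⟩ ∨ x = alp ⟨2 * b.1, by omega⟩ := by
  decide +kernel

/-- two permutations commuting with the involution and agreeing on even points are equal -/
theorem ext_even {s r : P12} (hs : s * alp = alp * s) (hr : r * alp = alp * r)
    (h : ∀ b : Fin 6, s ⟨2 * b.1, by omega⟩ = r ⟨2 * b.1, by omega⟩) : s = r := by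
  refine Equiv.ext fun x => ?_
  obtain ⟨b, rfl | rfl⟩ := even_cases x
  · exact h b
  · have h1 : s (alp ⟨2 * b.1, by omega⟩) = alp (s ⟨2 * b.1, by omega⟩) := DFunLike.congr_fun hs _
    have h2 : r (alp ⟨2 * b.1, by omega⟩) = alp (r ⟨2 * b.1, by omega⟩) := DFunLike.congr_fun hr _
    exact h1.trans ((congrArg alp (h b)).trans h2.symm)

theorem swap01_alp : swap (0 : Fin 12) 1 * alp = alp * swap (0 : Fin 12) 1 := same_iff.1 (by decide +kernel)

theorem sw01_table : ∀ (b : Fin 6) (c : Bool) (x : Fin 12), x.1 = 2 * b.1 + c.toNat →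
    (swap (0 : Fin 12) 1 x).1 = 2 * b.1 + (if b = 0 then !c else c).toNat := by decide +kernel

theorem parity_table : ∀ e : Fin 6 → Bool, (List.ofFn e).count true % 2 ≠ 0 →
    (List.ofFn fun b : Fin 6 => if b = 0 then !(e 0) else e b).count true % 2 = 0 := by decide +kernel

/-- the model centraliser is generated by the thirty elements -/
theorem X12_le_LX : X12 ≤ LX := by
  intro g hg
  obtain ⟨l, hl, hlb⟩ : ∃ l : X12, (l : P12) ∈ LX ∧ blk l = blk ⟨g, hg⟩ := by
    have hmem : blk ⟨g, hg⟩ ∈ Subgroup.closure {σ : Perm (Fin 6) | σ.IsSwap} := by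
      rw [Perm.closure_isSwap]; exact Subgroup.mem_top _
    have hle : Subgroup.closure {σ : Perm (Fin 6) | σ.IsSwap} ≤ (LX.subgroupOf X12).map blk := by
      refine (Subgroup.closure_le _).2 ?_
      rintro _ ⟨i, j, hij, rfl⟩
      obtain ⟨k, hk⟩ := swap_table i j hij
      exact ⟨⟨lE k, lE_mem k⟩, lE_LX k, hk⟩
    obtain ⟨l, hl, e⟩ := hle hmem
    exact ⟨l, hl, e⟩
  set r := (l : P12)⁻¹ * g with hr
  have hrX : r ∈ X12 := mul_mem (inv_mem l.2) hg
  have hblk : blk ⟨r, hrX⟩ = 1 := by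
    rw [show (⟨r, hrX⟩ : X12) = l⁻¹ * ⟨g, hg⟩ from rfl, map_mul, map_inv, hlb, inv_mul_cancel]
  have hb : ∀ b : Fin 6, (r ⟨2 * b.1, by omega⟩).1 / 2 = b.1 := fun b =>
    congrArg Fin.val (DFunLike.congr_fun hblk b)
  suffices r ∈ LX by simpa [hr] using mul_mem hl this
  let e : Fin 6 → Bool := fun b => (r ⟨2 * b.1, by omega⟩).1 % 2 == 1
  have he : ∀ b : Fin 6, (r ⟨2 * b.1, by omega⟩).1 = 2 * b.1 + (e b).toNat := fun b => by
    have h1 := hb b
    rcases Nat.mod_two_eq_zero_or_one (r ⟨2 * b.1, by omega⟩).1 with h2 | h2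
    · simp [e, h2]; omega
    · simp [e, h2]; omega
  -- a permutation fixing the six pairs is determined by the six images
  have hdet : ∀ (s : P12), s ∈ X12 → (∀ b : Fin 6, (s ⟨2 * b.1, by omega⟩).1 = 2 * b.1 + (e b).toNat) → s = r := by
    intro s hs h
    exact ext_even (mem_X12.1 hs).2 (mem_X12.1 hrX).2 fun b => Fin.ext ((h b).trans (he b).symm)
  have hpar : (List.ofFn e).count true % 2 = 0 := by
    -- otherwise the permutation would be odd
    by_contra hodd
    let e' : Fin 6 → Bool := fun b => if b = 0 then !(e 0) else e b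
    obtain ⟨n, hn⟩ := pow12 e' (parity_table e hodd)
    have hsX : flipW n.1 ∈ X12 := by
      have hle : LX ≤ X12 := (Subgroup.closure_le _).2 (by rintro _ ⟨i, rfl⟩; exact lE_mem i)
      exact hle (flipW_mem _)
    have hw : swap (0 : Fin 12) 1 * flipW n.1 = r := by
      refine ext_even ?_ (mem_X12.1 hrX).2 ?_
      · rw [mul_assoc, (mem_X12.1 hsX).2, ← mul_assoc, swap01_alp, mul_assoc]
      · intro b
        apply Fin.ext
        rw [Perm.mul_apply, sw01_table b (e' b) _ (hn b), he b]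
        congr 2
        by_cases hb0 : b = 0
        · subst hb0; simp [e']
        · simp [e', hb0]
    have h1 := congrArg Perm.sign hw
    rw [map_mul, (mem_X12.1 hsX).1, (mem_X12.1 hrX).1, Perm.sign_swap (by decide)] at h1
    exact absurd h1 (by decide)
  obtain ⟨n, hn⟩ := pow12 e hpar
  have hle : LX ≤ X12 := (Subgroup.closure_le _).2 (by rintro _ ⟨i, rfl⟩; exact lE_mem i)
  rw [← hdet _ (hle (flipW_mem n.1)) hn]
  exact flipW_mem n.1

variable {G : Type*} [Group G] {φ : X12 →* G}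

namespace Seven

variable [Finite G] (Y : Seven φ)
include Y

theorem el_Gam (i : Fin 30) : el φ i ∈ Gam φ := Y.Gam_closed alp_Gam (Y.el_DD i) (el_comm_alp i)

theorem invol_closed {x : ℕ} (hx : x < 64) (hx0 : x ≠ 0) {d : G} (hd : d ∈ DD φ)
    (hc : d * a φ x = a φ x * d) : d ∈ Gam φ := by
  by_contra hdG
  set K := Subgroup.centralizer ({a φ x} : Set G)
  have hdK : d ∈ K := Subgroup.mem_centralizer_singleton_iff.2 hc
  have hEK : E64 φ ≤ K := fun p hp => Subgroup.mem_centralizer_singleton_iff.2 (E64_comm p hp _ (a_mem hx))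
  have hall : ∀ y ∈ o7, ∃ k ∈ K, k * a φ y * k⁻¹ = d := by
    intro y hy
    have hyD := (Y.o7_iff (o7_lt y hy)).2 hy
    rcases Y.stranger hd hdG (Y.o7_Gam (o7_lt y hy) hyD) K (hEK (a_mem (o7_lt y hy))) hdK with
      h | ⟨v, hvG, hvne, hvc, -, hdz, -⟩
    · exact h
    exfalso
    obtain ⟨h, hhH, hh⟩ := Y.clique (F := {a φ y, v})
      (by rintro f (rfl | rfl); exacts [Y.o7_Gam (o7_lt y hy) hyD, hvG])
      (by rintro f (rfl | rfl) g (rfl | rfl); exacts [rfl, hvc.symm, hvc, rfl])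
    refine hdG ((hhH d).2 (Y.pairs_closed 64 {h * (a φ y * v) * h⁻¹} ?_ (Set.singleton_nonempty _)
      (Nat.le_add_right _ _) _ (DD_conj hd h) ?_))
    · rintro _ rfl
      exact ⟨h * a φ y * h⁻¹, h * v * h⁻¹, DD_conj hyD h, hh _ (Or.inl rfl), DD_conj hvG.1 h, hh _ (Or.inr rfl),
        fun e => hvne (mul_left_cancel (mul_right_cancel e)).symm, by group⟩
    · rintro _ rfl
      exact conj_comm hdz h
  refine Y.not_transitive (B := {a φ x}) (by rintro _ rfl; exact a_mem hx) hx hx0 rfl fun p hp q hq => ?_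
  obtain ⟨k, hk, e⟩ := hall p hp
  obtain ⟨l, hl, e'⟩ := hall q hq
  refine ⟨l⁻¹ * k, mul_mem (inv_mem hl) hk, ?_⟩
  rw [show l⁻¹ * k * a φ p * (l⁻¹ * k)⁻¹ = l⁻¹ * (k * a φ p * k⁻¹) * l by group, e, ← e']; group

theorem stab_invol {i : G} (hi : i ∈ stab φ) (h2 : i * i = 1) (h1 : i ≠ 1) :
    ∃ h ∈ stab φ, ∃ x < 64, x ≠ 0 ∧ h * i * h⁻¹ = a φ x := by
  obtain ⟨h, hhH, hh⟩ := Y.into_stab (Q := Subgroup.zpowers i) (by
    rintro ⟨_, k, rfl⟩
    refine ⟨1, Subtype.ext ?_⟩
    show (i ^ k) ^ (2 ^ 1) = 1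
    rw [pow_one, pow_two, ← (Commute.refl i).mul_zpow, h2, one_zpow]) (Subgroup.zpowers_le.2 hi)
  obtain ⟨p, hp, e⟩ := hh i (Subgroup.mem_zpowers i)
  have hp2 : p * p = 1 := Y.std.em_inj (mul_mem (S12_le hp) (S12_le hp)) (one_mem _) (by
    rw [em_mul φ (S12_le hp) (S12_le hp), e, conj_sq h2, em_one])
  obtain ⟨w, hw, x, hx, ew⟩ := invol_to_A hp hp2
  have hwH : em φ w ∈ stab φ := Y.cent_stab alp_Gam (by
    rw [← em_mul φ hw alp_mem, ← em_mul φ alp_mem hw, (mem_X12.1 hw).2])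
  have he : em φ w * h * i * (em φ w * h)⁻¹ = a φ x := by
    rw [a, ← ew, em_conj φ hw (S12_le hp), e]; group
  refine ⟨em φ w * h, mul_mem hwH hhH, x, hx, fun e0 => h1 ?_, he⟩
  rw [e0, a_zero] at he
  exact conj_eq_one_iff.1 he

theorem invol_cent_le {i : G} (hi : i ∈ stab φ) (h2 : i * i = 1) (h1 : i ≠ 1) :
    (∀ d ∈ DD φ, d * i = i * d → d ∈ Gam φ) ∧ ∀ g, g * i = i * g → g ∈ stab φ := by
  obtain ⟨h, hhH, x, hx, hx0, e⟩ := Y.stab_invol hi h2 h1
  have hD : ∀ d ∈ DD φ, d * i = i * d → d ∈ Gam φ := fun d hd hc =>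
    (hhH d).2 (Y.invol_closed hx hx0 (DD_conj hd h) (by rw [← e]; exact conj_comm hc h))
  refine ⟨hD, fun g hg => ?_⟩
  set u := h⁻¹ * em φ alp * h with hu
  have huG : u ∈ Gam φ := by
    have := ((inv_mem hhH) (em φ alp)).1 alp_Gam
    rwa [inv_inv] at this
  have hui : u * i = i * u := by
    have := conj_comm (a_comm (φ := φ) (show (56 : ℕ) < 64 by norm_num) hx) h⁻¹
    rw [a_alp, ← e, inv_inv, show h⁻¹ * (h * i * h⁻¹) * h = i by group] at this
    exact this
  refine Y.mem_stab huG (hD _ (DD_conj huG.1 g) ?_)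
  have := conj_comm hui g
  rwa [show g * i * g⁻¹ = i by rw [hg, mul_inv_cancel_right]] at this

theorem all_Gam {d : G} (hd : d ∈ DD φ) : d ∈ Gam φ := by
  by_contra hdG
  set i := a φ 8
  have hi2 : i * i = 1 := a_sq (by norm_num)
  have hiD : i ∉ DD φ := fun h => absurd ((Y.o7_iff (x := 8) (by norm_num)).1 h) (by decide)
  have ho := Y.std.a_two (x := 8) (by norm_num) (by norm_num)
  rcases pair_cases ho (Y.two hd) ⊤ (Subgroup.mem_top _) (Subgroup.mem_top _) with ⟨k, -, e⟩ | ⟨z, -, hz2, hz1, hzi, hzd, -⟩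
  · exact hiD (by
      have := DD_conj hd k⁻¹
      rwa [← e, inv_inv, show k⁻¹ * (k * i * k⁻¹) * k = i by group] at this)
  · have hzH : z ∈ stab φ :=
      (Y.invol_cent_le (Y.E64_stab (a_mem (by norm_num))) hi2 (CfsgLib.Invol.ne_one_of_orderOf_two ho)).2 z hzi
    exact hdG ((Y.invol_cent_le hzH hz2 hz1).1 d hd hzd.symm)

theorem three_set : Cfsg.IsThreeTranspositionSet (DD φ) := by
  refine ⟨fun d hd => Y.two hd, fun d hd e he => ?_⟩
  by_cases hc : d * e = e * d
  · left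
    rw [pow_two, show d * e * (d * e) = d * (e * d) * e by group, ← hc,
      show d * (d * e) * e = d * d * (e * e) by group, Y.sq hd, Y.sq he, one_mul]
  · right
    rw [pow_succ, pow_two]
    exact Y.Gam_three (Y.all_Gam hd) (Y.all_Gam he) hc

theorem conj_of_noncomm {d e : G} (hd : d ∈ DD φ) (he : e ∈ DD φ) (hc : d * e ≠ e * d) :
    ∃ n ∈ Subgroup.closure (DD φ), n * d * n⁻¹ = e := by
  have ho : Odd (orderOf (d * e)) := by
    have h3 : (d * e) ^ 3 = 1 := by rw [pow_succ, pow_two]; exact Y.Gam_three (Y.all_Gam hd) (Y.all_Gam he) hc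
    exact Odd.of_dvd_nat (by decide) (orderOf_dvd_of_pow_eq_one h3)
  obtain ⟨n, hn, e'⟩ := CfsgLib.Invol.exists_mem_closure_conj_of_odd (Y.two hd) (Y.two he) ho
  exact ⟨n, (Subgroup.closure_mono (by rintro w (rfl | rfl) <;> assumption)) hn, e'⟩

theorem closure_top : Subgroup.closure (DD φ) = ⊤ := by
  set N := Subgroup.closure (DD φ)
  have hX : ∀ x ∈ X12, em φ x ∈ N := by
    intro x hx
    have hle : LX ≤ X12 := (Subgroup.closure_le _).2 (by rintro _ ⟨i, rfl⟩; exact lE_mem i)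
    have h := X12_le_LX hx
    clear hx
    induction h using Subgroup.closure_induction with
    | mem y hy =>
      obtain ⟨i, rfl⟩ := hy
      exact Subgroup.subset_closure (Y.el_DD i)
    | one => rw [em_one]; exact one_mem _
    | mul p q hp hq ihp ihq => rw [em_mul φ (hle hp) (hle hq)]; exact mul_mem ihp ihq
    | inv p hp ih => rw [em_inv φ (hle hp)]; exact inv_mem ih
  rw [eq_top_iff]
  intro g _
  obtain ⟨n, hn, e⟩ : ∃ n ∈ N, n * em φ alp * n⁻¹ = g * em φ alp * g⁻¹ := by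
    have hd := DD_conj (φ := φ) alp_DD g
    by_cases hc : em φ alp * (g * em φ alp * g⁻¹) = g * em φ alp * g⁻¹ * em φ alp
    · rcases Y.nbr_alp hd hc.symm with e | ⟨i, e⟩
      · exact ⟨1, one_mem _, by rw [e]; group⟩
      · rw [e]
        obtain ⟨j, hij, hji, -⟩ := common_stranger i
        obtain ⟨k, hk, hmem, hall⟩ := Y.exists_chart (Y.el_DD j)
        obtain ⟨p, hp⟩ := hall _ alp_DD (el_comm_alp j).symm (Y.el_ne_alp j).symm
        obtain ⟨q, hq⟩ := hall _ (Y.el_DD i) ((Y.el_com i j).2 hij) (fun e => hji (Y.el_inj e).symm)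
        obtain ⟨c, hcp, hcq⟩ : ∃ c : Fin 30, com c p = false ∧ com c q = false := by
          have hpq : com p q = true := (Y.chart_com k p q).1 (by rw [← hp, ← hq]; exact (el_comm_alp i).symm)
          have tab : ∀ p q : Fin 30, com p q = true → ∃ c : Fin 30, com c p = false ∧ com c q = false := by
            decide +kernel
          exact tab p q hpq
        obtain ⟨n1, hn1, e1⟩ := Y.conj_of_noncomm alp_DD (hmem c).1 (fun h => by
          rw [hp] at h; rw [(Y.chart_com k c p).1 h.symm] at hcp; exact Bool.false_ne_true hcp.symm)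
        obtain ⟨n2, hn2, e2⟩ := Y.conj_of_noncomm (hmem c).1 (Y.el_DD i) (fun h => by
          rw [hq] at h; rw [(Y.chart_com k c q).1 h] at hcq; exact Bool.false_ne_true hcq.symm)
        exact ⟨n2 * n1, mul_mem hn2 hn1, by rw [← e2, ← e1]; group⟩
    · exact Y.conj_of_noncomm alp_DD hd hc
  obtain ⟨x, hx, ex⟩ := Y.std.cent (n⁻¹ * g) (by
    calc n⁻¹ * g * em φ alp = n⁻¹ * (g * em φ alp * g⁻¹) * g := by group
      _ = n⁻¹ * (n * em φ alp * n⁻¹) * g := by rw [e]
      _ = _ := by group)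
  have := mul_mem hn (ex ▸ hX x hx)
  rwa [mul_inv_cancel_left] at this

theorem group3 : Cfsg.IsThreeTranspositionGroup (DD φ) :=
  ⟨Y.three_set, fun g _ hd => DD_conj hd g, Y.closure_top⟩

/-- a block meeting the neighbours of a point in it contains all of them -/
theorem block_nbrs {B : Set G}
    (hB : ∀ g : G, (fun x => g * x * g⁻¹) '' B = B ∨ Disjoint ((fun x => g * x * g⁻¹) '' B) B)
    {x p q : G} (hx : x ∈ DD φ) (hxB : x ∈ B) (hp : p ∈ DD φ) (hpB : p ∈ B) (hpx : p * x = x * p) (hpne : p ≠ x)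
    (hq : q ∈ DD φ) (hqx : q * x = x * q) : q ∈ B := by
  by_cases hqne : q = x
  · exact hqne ▸ hxB
  obtain ⟨k, hk, hmem, hall⟩ := Y.exists_chart hx
  obtain ⟨i, rfl⟩ := hall p hp hpx hpne
  obtain ⟨j, rfl⟩ := hall q hq hqx hqne
  obtain ⟨w, hw, ew⟩ := exists_carry i
  obtain ⟨w', hw', ew'⟩ := exists_carry j
  set t := k * em φ (w' * w⁻¹) * k⁻¹ with ht
  have hwX : w' * w⁻¹ ∈ X12 := mul_mem hw' (inv_mem hw)
  have hxfix : t * x * t⁻¹ = x := by
    rw [ht, ← hk, show k * em φ (w' * w⁻¹) * k⁻¹ * (k * em φ alp * k⁻¹) * (k * em φ (w' * w⁻¹) * k⁻¹)⁻¹ =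
      k * (em φ (w' * w⁻¹) * em φ alp * (em φ (w' * w⁻¹))⁻¹) * k⁻¹ by group, ← em_mul φ hwX alp_mem,
      (mem_X12.1 hwX).2, em_mul φ alp_mem hwX, mul_inv_cancel_right]
  have hmap : t * (k * el φ i * k⁻¹) * t⁻¹ = k * el φ j * k⁻¹ := by
    rw [ht, show k * em φ (w' * w⁻¹) * k⁻¹ * (k * el φ i * k⁻¹) * (k * em φ (w' * w⁻¹) * k⁻¹)⁻¹ =
      k * (em φ (w' * w⁻¹) * el φ i * (em φ (w' * w⁻¹))⁻¹) * k⁻¹ by group, el, ← em_conj φ hwX (lE_mem i), ← ew,
      show w' * w⁻¹ * (w * lE 0 * w⁻¹) * (w' * w⁻¹)⁻¹ = w' * lE 0 * w'⁻¹ by group, ew', el]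
  rcases hB t with h | h
  · rw [← h]; exact ⟨_, hpB, hmap⟩
  · exact absurd hxB (Set.disjoint_left.1 h ⟨x, hxB, hxfix⟩)

theorem primitive : Cfsg.IsPrimitiveUnderConj (DD φ) := by
  refine ⟨fun p hp q hq => isConj_iff.1 ((IsConj.symm hp).trans hq),
    ⟨_, alp_DD, _, Y.el_DD 0, fun e => Y.el_ne_alp 0 e.symm⟩, fun B hB hblock => ?_⟩
  rw [or_iff_not_imp_left]
  intro hne
  rw [Set.not_subsingleton_iff] at hne
  obtain ⟨x, hx, y, hy, hxy⟩ := hne
  obtain ⟨p, hp, q, hq, hpq, hc⟩ : ∃ p ∈ B, ∃ q ∈ B, p ≠ q ∧ p * q = q * p := by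
    by_cases hc : x * y = y * x
    · exact ⟨x, hx, y, hy, hxy, hc⟩
    obtain ⟨c, hcG, hcx, hcy⟩ := Y.Gam_diam (Y.all_Gam (hB hx)) (Y.all_Gam (hB hy))
    obtain ⟨k, hk, hmem, hall⟩ := Y.exists_chart hcG.1
    obtain ⟨i, hi⟩ := hall x (hB hx) hcx.symm (fun e => hc (e ▸ hcy))
    obtain ⟨j, hj⟩ := hall y (hB hy) hcy.symm (fun e => hc (e ▸ hcx).symm)
    obtain ⟨g, hg, hgi, hgj⟩ := exists_flip (i := i) (j := j)
      (by rw [← Bool.not_eq_true, ← Y.chart_com k, ← hi, ← hj]; exact hc)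
    set t := k * em φ g * k⁻¹ with ht
    have htx : t * x * t⁻¹ = x := by
      rw [hi, ht, show k * em φ g * k⁻¹ * (k * el φ i * k⁻¹) * (k * em φ g * k⁻¹)⁻¹ =
        k * (em φ g * el φ i * (em φ g)⁻¹) * k⁻¹ by group, el, ← em_conj φ hg (lE_mem i), hgi]
    have hty : t * y * t⁻¹ = k * el φ (twin j) * k⁻¹ := by
      rw [hj, ht, show k * em φ g * k⁻¹ * (k * el φ j * k⁻¹) * (k * em φ g * k⁻¹)⁻¹ =
        k * (em φ g * el φ j * (em φ g)⁻¹) * k⁻¹ by group, el, ← em_conj φ hg (lE_mem j), hgj, el]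
    rcases hblock t with h | h
    · refine ⟨y, hy, k * el φ (twin j) * k⁻¹, h.le ⟨y, hy, hty⟩, fun e => ?_, ?_⟩
      · rw [hj] at e; exact (twin_facts j).2.1 (Y.chart_inj k e).symm
      · rw [hj]; exact (Y.chart_com k j (twin j)).2 (twin_facts j).1
    · exact absurd hx (Set.disjoint_left.1 h ⟨x, hx, htx⟩)
  refine Set.Subset.antisymm hB fun d hd => ?_
  obtain ⟨c, hcG, hcp, hcd⟩ := Y.Gam_diam (Y.all_Gam (hB hp)) (Y.all_Gam hd)
  have hcB := Y.block_nbrs hblock (hB hp) hp (hB hq) hq hc.symm hpq.symm hcG.1 hcp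
  by_cases hcp' : p = c
  · exact Y.block_nbrs hblock (hB hp) hp (hB hq) hq hc.symm hpq.symm hd (hcp' ▸ hcd.symm)
  · exact Y.block_nbrs hblock hcG.1 hcB (hB hp) hp hcp.symm hcp' hd hcd.symm

theorem center_bot : Subgroup.center G = ⊥ := by
  refine (Subgroup.eq_bot_iff_forall _).2 fun z hz => ?_
  have hzc : ∀ g, g * z = z * g := Subgroup.mem_center_iff.1 hz
  obtain ⟨x, hx, rfl⟩ := Y.std.cent_E64 (g := z) fun x _ => (hzc _).symm
  have h := List.all_eq_true.1 only_centre x (List.mem_range.2 hx)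
  rw [Bool.or_eq_true, Bool.or_eq_true, beq_iff_eq, beq_iff_eq] at h
  rcases h with (rfl | rfl) | h
  · exact a_zero
  · exfalso
    obtain ⟨g, hg⟩ := isConj_iff.1 (Y.el_DD 0)
    rw [← a_alp, hzc g, mul_inv_cancel_right, a_alp] at hg
    exact Y.el_ne_alp 0 hg.symm
  · obtain ⟨i, hi, hne⟩ := List.any_eq_true.1 h
    refine absurd (Y.std.a_inj (g4_conj (List.mem_range.1 hi) hx).1 hx ?_) (bne_iff_ne.1 hne)
    rw [← a_conj_g4 (List.mem_range.1 hi) hx, hzc, mul_inv_cancel_right]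

theorem lines : CfsgLib.FischerO2.Lines (DD φ) where
  grp := Y.group3
  prim := Y.primitive
  wide := ⟨_, alp_DD, _, Y.el_DD 0, fun e => Y.el_ne_alp 0 e.symm, (el_comm_alp 0).symm⟩
  third := by
    refine ⟨_, alp_DD, el φ 0, ⟨Y.el_DD 0, Y.el_ne_alp 0, (el_comm_alp 0).symm⟩, el φ (twin 0),
      ⟨Y.el_DD _, Y.el_ne_alp _, (el_comm_alp _).symm⟩, fun e => (twin_facts 0).2.1 (Y.el_inj e).symm, fun y hy => ?_⟩
    rcases Y.nbr_alp hy.1 hy.2.2.eq.symm with e | ⟨j, rfl⟩
    · exact absurd e hy.2.1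
    · show el φ 0 * el φ j = el φ j * el φ 0 ↔ el φ (twin 0) * el φ j = el φ j * el φ (twin 0)
      rw [Y.el_com, Y.el_com, com_symm 0 j, com_symm (twin 0) j, (twin_facts 0).2.2.2.2 j]

theorem symp : CfsgLib.FischerO2.Symp (DD φ) where
  toLines := Y.lines
  three := by
    intro x hx p hp
    obtain ⟨q, hq⟩ := Y.exists_tw hx hp.1 hp.2.2.eq.symm hp.2.1
    have h : CfsgLib.FischerO2.line (DD φ) x p = {x, p, q} := by
      ext z
      constructor
      · intro hz
        by_cases hzx : z = x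
        · exact .inl hzx
        have hzc : z * x = x * z := (hz.2 x ⟨hx, Commute.refl x, hp.2.2.symm⟩).eq
        rcases Y.tw_eq hx hp.1 hp.2.2.eq.symm hp.2.1 hq hz.1 hzc hzx
          (fun y hy hyx hyp => (hz.2 y ⟨hy, hyx.symm, hyp.symm⟩).eq.symm) with e | e
        · exact .inr (.inl e)
        · exact .inr (.inr e)
      · rintro (rfl | rfl | rfl)
        · exact CfsgLib.FischerO2.left_mem_line hx
        · exact CfsgLib.FischerO2.right_mem_line hp.1
        · exact ⟨hq.1, fun y hy => ((hq.2.2.2.2 y hy.1 hy.2.1.eq.symm).1 hy.2.2.eq.symm).symm⟩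
    rw [h]
    exact Set.ncard_eq_three.2 ⟨x, p, q, hp.2.1.symm, hq.2.1.symm, hq.2.2.1.symm, rfl⟩

theorem nbr_card : (nbr (DD φ) (em φ alp)).ncard = 30 := by
  have e : nbr (DD φ) (em φ alp) = Set.range (el φ) := by
    ext y
    constructor
    · intro hy
      rcases Y.nbr_alp hy.1 hy.2.2.eq.symm with e | ⟨j, rfl⟩
      · exact absurd e hy.2.1
      · exact ⟨j, rfl⟩
    · rintro ⟨j, rfl⟩
      exact ⟨Y.el_DD j, Y.el_ne_alp j, (el_comm_alp j).symm⟩
  rw [e, ← Set.image_univ, Set.ncard_image_of_injective _ (fun i j h => Y.el_inj h), Set.ncard_univ,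
    Nat.card_eq_fintype_card, Fintype.card_fin]

/-- the group is symplectic -/
theorem result : ∃ (F : Type) (_ : Field F) (_ : Fintype F), Fintype.card F = 2 ∧ Nonempty (G ≃* Cfsg.PSp 3 F) := by
  classical
  obtain ⟨m, hm, f, C⟩ := CfsgLib.FischerClass.symp_coords Y.symp Y.center_bot
  obtain ⟨p, hp⟩ : ∃ p, f p = em φ alp := by
    have : em φ alp ∈ Set.range f := C.range ▸ alp_DD
    exact this
  have hcom : ∀ q, Commute (f p) (f q) ↔ CfsgLib.FischerClass.sw p.1 q.1 = 0 := by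
    intro q
    rw [← CfsgLib.FischerClass.pop_eq_iff]
    refine ⟨fun h => C.inj ?_, fun h => ?_⟩
    · rw [C.conj, h.eq, mul_assoc, Y.sq (C.mem p), mul_one]
    · have := C.conj p q
      rw [h] at this
      show f p * f q = f q * f p
      calc f p * f q = f p * f q * f p * f p := by rw [mul_assoc, Y.sq (C.mem p), mul_one]
        _ = f q * f p := by rw [← this]
  have hnb : {q : CfsgLib.FischerClass.SP m | q ≠ p ∧ CfsgLib.FischerClass.sw p.1 q.1 = 0}.ncard = 30 := by
    rw [← Y.nbr_card, ← hp, ← Set.ncard_image_of_injective _ C.inj]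
    congr 1
    ext y
    constructor
    · rintro ⟨q, ⟨hq, h0⟩, rfl⟩
      exact ⟨C.mem q, fun e => hq (C.inj e), (hcom q).2 h0⟩
    · rintro ⟨hy, hne, hc⟩
      obtain ⟨q, rfl⟩ : y ∈ Set.range f := C.range ▸ hy
      exact ⟨q, ⟨fun e => hne (by rw [e]), (hcom q).1 hc⟩, rfl⟩
  have hm3 : m = 3 := by
    have hV : Nat.card (CfsgLib.FischerClass.SV m) = 2 ^ (2 * m) := by
      rw [Nat.card_eq_fintype_card, Fintype.card_fun, Fintype.card_sum, Fintype.card_fin, ZMod.card, two_mul]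
    have hlt : 30 < 2 ^ (2 * m) := by
      rw [← hV]
      refine lt_of_le_of_lt (hnb ▸ ?_ : 30 ≤ Nat.card (CfsgLib.FischerClass.SP m)) ?_
      · rw [← Set.ncard_univ]
        exact Set.ncard_le_ncard (Set.subset_univ _)
      · rw [Nat.card_eq_fintype_card, Nat.card_eq_fintype_card]
        exact Fintype.card_subtype_lt (x := 0) (by simp)
    let L : CfsgLib.FischerClass.SV m →+ ZMod 2 :=
      AddMonoidHom.mk' (fun v => CfsgLib.FischerClass.sw p.1 v) (fun u v => CfsgLib.FischerClass.sw_add_right _ _ _)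
    have h1 := AddSubgroup.card_mul_index L.ker
    rw [AddSubgroup.index_ker, hV] at h1
    have h2 : Nat.card L.range ≤ 2 := by
      refine (Nat.card_le_card_of_injective _ Subtype.val_injective).trans ?_
      rw [Nat.card_eq_fintype_card, ZMod.card]
    have h3 : Nat.card L.ker ≤ 32 := by
      have hsub : (L.ker : Set (CfsgLib.FischerClass.SV m)) ⊆
          insert 0 (insert p.1 (Subtype.val '' {q : CfsgLib.FischerClass.SP m | q ≠ p ∧ CfsgLib.FischerClass.sw p.1 q.1 = 0})) := by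
        intro v hv
        by_cases h0 : v = 0
        · exact .inl h0
        by_cases hvp : v = p.1
        · exact .inr (.inl hvp)
        exact .inr (.inr ⟨⟨v, h0⟩, ⟨fun e => hvp (congrArg Subtype.val e), hv⟩, rfl⟩)
      have := Set.ncard_le_ncard hsub
      have h4 := (Set.ncard_insert_le (0 : CfsgLib.FischerClass.SV m) _).trans (Nat.add_le_add_right (Set.ncard_insert_le p.1
        (Subtype.val '' {q : CfsgLib.FischerClass.SP m | q ≠ p ∧ CfsgLib.FischerClass.sw p.1 q.1 = 0})) 1)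
      have h5 := this.trans h4
      rw [Set.ncard_image_of_injective _ Subtype.val_injective, hnb, ← Nat.card_coe_set_eq] at h5
      exact h5
    have h6 : 2 ^ (2 * m) ≤ 64 := by rw [← h1]; exact (Nat.mul_le_mul h3 h2).trans (by norm_num)
    have a1 : m ≤ 3 := by
      by_contra h
      have : 2 ^ 8 ≤ 2 ^ (2 * m) := Nat.pow_le_pow_right (by norm_num) (by omega)
      omega
    by_contra h
    obtain rfl : m = 2 := by omega
    norm_num at hlt
  subst hm3
  obtain ⟨e, -⟩ := (CfsgLib.FischerClass.symp_model (m := 3) (by norm_num)).iso Y.group3 Y.center_bot C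
  have hZ := (CfsgLib.FischerClass.symp_model (m := 3) (by norm_num)).1.hZ
  exact ⟨ZMod 2, inferInstance, inferInstance, ZMod.card 2,
    ⟨e.trans ((QuotientGroup.quotientMulEquivOfEq hZ).trans QuotientGroup.quotientBot).symm⟩⟩

end Seven

end CfsgLib.TwelveCent
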