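import Cfsg.Agent.Lib.Invol.Dihedral

/-!
General facts on pairs of involutions and on weakly closed subgroups.
-/

set_option autoImplicit false

namespace CfsgLib.TwelveCent

open CfsgLib.Invol

variable {G : Type*} [Group G]

theorem two_of {x : G} (h : x * x = 1) (h1 : x ≠ 1) : orderOf x = 2 := orderOf_two_of_mul_self h h1

theorem conj_sq {x : G} (h : x * x = 1) (g : G) : g * x * g⁻¹ * (g * x * g⁻¹) = 1 := by
  rw [show g * x * g⁻¹ * (g * x * g⁻¹) = g * (x * x) * g⁻¹ by group, h]; group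

theorem conj_comm {x y : G} (h : x * y = y * x) (g : G) :
    g * x * g⁻¹ * (g * y * g⁻¹) = g * y * g⁻¹ * (g * x * g⁻¹) := by
  rw [show g * x * g⁻¹ * (g * y * g⁻¹) = g * (x * y) * g⁻¹ by group, h]; group

/-- Two involutions have odd product, hence are conjugate inside any subgroup containing both, or centralize a common involution `z`, and then
`x * z` is conjugate, in any such subgroup, to `x` or to `y`. -/
theorem pair_cases [Finite G] {x y : G} (hx : orderOf x = 2) (hy : orderOf y = 2) (K : Subgroup G)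
    (hxK : x ∈ K) (hyK : y ∈ K) :
    (∃ k ∈ K, k * x * k⁻¹ = y) ∨
      ∃ z ∈ K, z * z = 1 ∧ z ≠ 1 ∧ z * x = x * z ∧ z * y = y * z ∧
        ((∃ k ∈ K, k * x * k⁻¹ = x * z) ∨ ∃ k ∈ K, k * y * k⁻¹ = x * z) := by
  have hle : Subgroup.closure ({x, y} : Set G) ≤ K := (Subgroup.closure_le _).2 (by
    rintro w (rfl | rfl); exacts [hxK, hyK])
  rcases Nat.even_or_odd (orderOf (x * y)) with he | ho
  · refine .inr ⟨centralInvol x y, hle (centralInvol_mem_closure x y),
      mul_self_of_orderOf_two (orderOf_centralInvol x y he), centralInvol_ne_one x y he,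
      (centralInvol_comm_left hx hy he).eq, (centralInvol_comm_right hx hy he).eq, ?_⟩
    obtain ⟨a, ha⟩ := he
    rcases Nat.even_or_odd a with ⟨b, hb⟩ | ⟨b, hb⟩
    · obtain ⟨d, hd, hdx⟩ := exists_conj_left_mul_centralInvol hx hy ⟨b, by omega⟩
      exact .inl ⟨d, hle hd, hdx⟩
    · refine .inr ⟨(x * y) ^ (-(b : ℤ)), hle (zpow_mem_closure x y _), ?_⟩
      rw [conj_right hx hy, centralInvol, ← zpow_natCast, ha]
      congr 2
      rw [show (a + a) / 2 = 2 * b + 1 by omega]; push_cast; ring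
  · obtain ⟨d, hd, hdx⟩ := exists_mem_closure_conj_of_odd hx hy ho
    exact .inl ⟨d, hle hd, hdx⟩

/-- If the product of two involutions is not of odd order there is a dihedral group of order eight or four with the same centre:
some conjugate of `y` or of `x` times `x` squares to the central involution or is it. -/
theorem exists_quarter [Finite G] {x y z : G} (hx : orderOf x = 2) (hy : orderOf y = 2)
    (he : Even (orderOf (x * y))) (hz : centralInvol x y = z) (K : Subgroup G) (hxK : x ∈ K) (hyK : y ∈ K) :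
    (∃ k ∈ K, k * y * k⁻¹ = x * z) ∨
      ∃ v ∈ K, v * v = 1 ∧ (x * v) * (x * v) = z ∧ ((∃ k ∈ K, k * x * k⁻¹ = v) ∨ ∃ k ∈ K, k * y * k⁻¹ = v) := by
  have hle : Subgroup.closure ({x, y} : Set G) ≤ K := (Subgroup.closure_le _).2 (by
    rintro w (rfl | rfl); exacts [hxK, hyK])
  have hmem : ∀ k : ℤ, (x * y) ^ k ∈ K := fun k => hle (zpow_mem_closure x y k)
  obtain ⟨a, ha⟩ := he
  rcases Nat.even_or_odd a with ⟨b, hb⟩ | ⟨b, hb⟩
  · right
    refine ⟨x * (x * y) ^ (b : ℤ), mul_mem hxK (hmem _), ?_, ?_, ?_⟩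
    · rw [left_mul_zpow_mul_self hx hy, sub_self, zpow_zero]
    · rw [← mul_assoc x x, mul_self_of_orderOf_two hx, one_mul, ← zpow_add, ← hz, centralInvol,
        ← zpow_natCast, ha]
      congr 1
      rw [show (a + a) / 2 = b + b by omega]; push_cast; ring
    · rcases Nat.even_or_odd b with ⟨c, hc⟩ | ⟨c, hc⟩
      · exact .inl ⟨_, hmem (-(c : ℤ)), by rw [conj_left hx hy, hc]; congr 2; push_cast; ring⟩
      · exact .inr ⟨_, hmem (-(c : ℤ)), by rw [conj_right hx hy, hc]; congr 2; push_cast; ring⟩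
  · left
    refine ⟨(x * y) ^ (-(b : ℤ)), hmem _, ?_⟩
    rw [conj_right hx hy, ← hz, centralInvol, ← zpow_natCast, ha]
    congr 2
    rw [show (a + a) / 2 = 2 * b + 1 by omega]; push_cast; ring

/-- Elements of a subgroup containing two involutions, containing centralisers of one class. -/
theorem mem_of_conj {H : Subgroup G} {a g : G} (hc : ∀ k : G, k * a = a * k → k ∈ H)
    (h : ∃ h ∈ H, h * a * h⁻¹ = g * a * g⁻¹) : g ∈ H := by
  obtain ⟨k, hk, e⟩ := h
  have h1 : k⁻¹ * g ∈ H := hc _ (by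
    have e' : k⁻¹ * (g * a * g⁻¹) * k = a := by rw [← e]; group
    calc k⁻¹ * g * a = k⁻¹ * (g * a * g⁻¹) * k * (k⁻¹ * g) := by group
      _ = a * (k⁻¹ * g) := by rw [e'])
  simpa using mul_mem hk h1

/-- Any two conjugates of an abelian subgroup lying in a common 2-group being equal, fusion takes place in the normaliser. -/
theorem fusion_in_normalizer [Finite G] {E : Subgroup G}
    (hE : IsPGroup 2 E) (hab : ∀ a ∈ E, ∀ b ∈ E, a * b = b * a)
    (hu : ∀ (Q : Subgroup G) (g : G), IsPGroup 2 Q → E ≤ Q → (∀ x ∈ E, g * x * g⁻¹ ∈ Q) → ∀ x ∈ E, g * x * g⁻¹ ∈ E)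
    {K : Subgroup G} (hEK : E ≤ K) {y g : G} (hgK : g ∈ K) (hy : y ∈ E) (hgy : g * y * g⁻¹ ∈ E) :
    ∃ n ∈ K, (∀ x ∈ E, n * x * n⁻¹ ∈ E) ∧ n * y * n⁻¹ = g * y * g⁻¹ := by
  haveI := Fact.mk Nat.prime_two
  set z := g * y * g⁻¹
  set Z := K ⊓ Subgroup.centralizer ({z} : Set G)
  have h1 : E ≤ Z := fun x hx => ⟨hEK hx, Subgroup.mem_centralizer_singleton_iff.2 (hab x hx z hgy)⟩
  have h2 : E.map (MulAut.conj g).toMonoidHom ≤ Z := by
    rintro _ ⟨x, hx, rfl⟩
    exact ⟨K.mul_mem (K.mul_mem hgK (hEK hx)) (K.inv_mem hgK),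
      Subgroup.mem_centralizer_singleton_iff.2 (conj_comm (hab x hx y hy) g)⟩
  obtain ⟨Q1, hQ1⟩ := (hE.comap_of_injective Z.subtype Z.subtype_injective).exists_le_sylow
  obtain ⟨Q2, hQ2⟩ := ((hE.map (MulAut.conj g).toMonoidHom).comap_of_injective Z.subtype
    Z.subtype_injective).exists_le_sylow
  obtain ⟨h, hh⟩ := MulAction.exists_smul_eq Z Q2 Q1
  refine ⟨(h : G) * g, mul_mem h.2.1 hgK, hu ((Q1 : Subgroup Z).map Z.subtype) _ (Q1.isPGroup'.map _) ?_ ?_, ?_⟩
  · exact fun x hx => ⟨⟨x, h1 hx⟩, hQ1 hx, rfl⟩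
  · intro x hx
    refine ⟨h * ⟨g * x * g⁻¹, h2 ⟨x, hx, rfl⟩⟩ * h⁻¹, ?_, by simp [mul_assoc]⟩
    rw [← hh]
    exact ⟨_, hQ2 ⟨x, hx, rfl⟩, rfl⟩
  · rw [show (h : G) * g * y * ((h : G) * g)⁻¹ = (h : G) * z * (h : G)⁻¹ by simp only [z]; group,
      Subgroup.mem_centralizer_singleton_iff.1 h.2.2]
    group

end CfsgLib.TwelveCent
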