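import Cfsg.Agent.Lib.TwelveCent.Model

/-!
Tables on the model: fixed points of the Sylow complement, conjugation of involutions into the abelian
subgroup, and the unions of orbits with constant sum counts.
-/

set_option autoImplicit false
set_option maxRecDepth 100000

namespace CfsgLib.TwelveCent

/-- the permutation of a list of images and the list of preimages -/
def ofList (l l' : List (Fin 12)) (h : ∀ i : Fin 12, l'.getD (l.getD i.1 0).1 0 = i ∧ l.getD (l'.getD i.1 0).1 0 = i) : P12 :=
  ⟨fun i => l.getD i.1 0, fun i => l'.getD i.1 0, fun i => (h i).1, fun i => (h i).2⟩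

/-- permutations conjugating involutions of the Sylow subgroup into the abelian subgroup -/
def wits : List P12 :=
  [ofList [0, 1, 4, 5, 2, 3, 6, 7, 8, 9, 10, 11] [0, 1, 4, 5, 2, 3, 6, 7, 8, 9, 10, 11] (by decide +kernel),
    ofList [0, 1, 4, 5, 6, 7, 2, 3, 8, 9, 10, 11] [0, 1, 6, 7, 2, 3, 4, 5, 8, 9, 10, 11] (by decide +kernel),
    ofList [0, 1, 2, 3, 4, 5, 8, 9, 6, 7, 10, 11] [0, 1, 2, 3, 4, 5, 8, 9, 6, 7, 10, 11] (by decide +kernel),
    ofList [0, 1, 2, 3, 4, 5, 8, 9, 10, 11, 6, 7] [0, 1, 2, 3, 4, 5, 10, 11, 6, 7, 8, 9] (by decide +kernel),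
    ofList [0, 1, 4, 5, 8, 9, 10, 11, 2, 3, 6, 7] [0, 1, 8, 9, 2, 3, 10, 11, 4, 5, 6, 7] (by decide +kernel),
    ofList [0, 1, 4, 5, 8, 9, 10, 11, 6, 7, 2, 3] [0, 1, 10, 11, 2, 3, 8, 9, 4, 5, 6, 7] (by decide +kernel)]

theorem wits_mem : wits.all inX = true := by decide +kernel

theorem invol_table : ((List.range 8).all fun k => k == 0 || (List.range 64).all fun x =>
    !same (av x * kv k * (av x * kv k)) 1 || wits.any fun w => inA (w * (av x * kv k) * w⁻¹)) = true := by
  decide +kernel

/-- every involution of the Sylow subgroup is conjugate into the abelian subgroup -/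
theorem invol_to_A {t : P12} (ht : t ∈ S12) (h2 : t * t = 1) :
    ∃ w ∈ X12, ∃ x < 64, w * t * w⁻¹ = av x := by
  obtain ⟨x, hx, k, hk, rfl⟩ := ht
  have h := List.all_eq_true.1 invol_table k (List.mem_range.2 hk)
  rw [Bool.or_eq_true, beq_iff_eq] at h
  rcases h with rfl | h
  · exact ⟨1, one_mem _, x, hx, by rw [kv_zero]; group⟩
  · have h' := List.all_eq_true.1 h x (List.mem_range.2 hx)
    rw [Bool.or_eq_true, Bool.not_eq_true', same_iff.2 h2] at h'
    obtain ⟨w, hw, e⟩ := List.any_eq_true.1 (h'.resolve_left (by simp))
    obtain ⟨y, hy, e⟩ := inA_iff.1 e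
    exact ⟨w, inX_iff.1 (List.all_eq_true.1 wits_mem w hw), y, hy, e.symm⟩

/-- the points fixed by a set of complement elements -/
def fixed (ks : List ℕ) : List ℕ := (List.range 64).filter fun x => ks.all fun k => act k x == x

theorem fixed_one : ((List.range 8).all fun k => k == 0 || Nat.ble (fixed [k]).length 16) = true := by decide +kernel

theorem fixed_two : ((List.range 8).all fun k => (List.range 8).all fun l =>
    k == 0 || l == 0 || k == l || Nat.ble (fixed [k, l]).length 8) = true := by decide +kernel

theorem fixed_all : (fixed (List.range 8)).length = 4 := by decide +kernel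

/-- the set of triple commutators -/
theorem triple_table : ((List.range 64).all fun a => (List.range 8).all fun i => (List.range 8).all fun j =>
    (List.range 8).all fun k =>
      let b := a ^^^ act i a; let c := b ^^^ act j b; let d := c ^^^ act k c
      d == 0 || d == 24) = true := by decide +kernel

theorem triple_hit : ((List.range 64).any fun a => (List.range 8).any fun i => (List.range 8).any fun j =>
    (List.range 8).any fun k =>
      let b := a ^^^ act i a; let c := b ^^^ act j b; let d := c ^^^ act k c
      d == 24) = true := by decide +kernel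

theorem fixed_alp : ((List.range 8).all fun k => act k 56 == 56 && act k 24 == 24) = true := by decide +kernel

theorem only_centre : ((List.range 64).all fun x =>
    x == 0 || x == 56 || (List.range 4).any fun i => g4 i x != x) = true := by decide +kernel

theorem avF_self : ((List.finRange 12).all fun i => (List.range 4).all fun a => (List.range 4).all fun b =>
    (List.range 4).all fun c =>
      let n := (a / 2 % 2) + 2 * (b / 2 % 2) + 4 * (c / 2 % 2) + 8 * (a % 2) + 16 * (b % 2) + 32 * (c % 2)
      Nat.blt n 64 && (avF n i).1 == (i.1 ^^^ [a, b, c].getD (i.1 / 4) 0)) = true := by decide +kernel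

/-- the word carrying the first element of an orbit to a given one -/
def orbW (x : ℕ) : List ℕ := [[], [], [2], [], [3, 2], [3], [2, 3], [], [], [0], [], [1, 0], [3], [0, 3], [], [], [2], [2], [2, 0], [1], [2, 3], [2], [2, 0, 3], [0], [], [2, 0], [0], [0], [], [2, 0], [0], [0], [3, 2], [3, 2], [2, 3, 2], [3, 2], [3, 2, 0], [3, 1], [2, 3, 1], [1, 0], [3], [3, 2, 0], [3], [3, 2, 0], [3, 0], [3, 0], [1, 0], [1, 0], [2, 3], [2, 3], [2, 3, 2, 0], [3, 1, 2], [2, 3, 0], [1, 2], [2, 3, 0], [1], [], [2, 3, 1], [3, 1], [3, 2, 1], [1], [2, 1], [1], [1]].getD x []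

/-- the first element of the orbit -/
def orbR (x : ℕ) : ℕ := [0, 1, 1, 3, 1, 3, 3, 7, 8, 1, 10, 3, 10, 3, 14, 15, 8, 10, 1, 3, 10, 14, 3, 15, 24, 10, 10, 3, 28, 14, 14, 7, 8, 10, 10, 14, 1, 3, 3, 15, 24, 10, 28, 14, 10, 3, 14, 7, 24, 28, 10, 14, 10, 14, 3, 7, 56, 28, 28, 14, 28, 14, 14, 15].getD x 0

/-- apply a word -/
def appW : List ℕ → ℕ → ℕ
  | [], x => x
  | i :: w, x => g4 i (appW w x)

theorem orb_table : ((List.range 64).all fun x => x == 0 ||
    (Nat.blt (orbR x) 64 && appW (orbW x) (orbR x) == x && (orbW x).all (Nat.blt · 4))) = true := by decide +kernel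

/-- the first elements of the orbits which may occur -/
def reps : List ℕ := [1, 10, 28, 3, 14, 7, 15]

/-- the seven orbits as binary sets -/
def omasks : List ℕ := [68719739414, 5649316615164928, 1585834417102782464, 18049995337377896, 7505327979822596096, 36169536654803072, 9223372586619011072]

theorem orbR_cases : ((List.range 64).all fun x => x == 0 || x == 56 || orbR x == 8 || orbR x == 24 ||
    reps.contains (orbR x)) = true := by decide +kernel

theorem orbR_three : ((List.range 64).all fun x => (!(orbR x == 8) || [8, 16, 32].contains x) &&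
    (!(orbR x == 24) || [24, 40, 48].contains x)) = true := by decide +kernel

/-- the union selected by the digits of `m`, with `56` -/
def oset (m : ℕ) : ℕ :=
  2 ^ 56 + (List.range 7).foldl (fun s i => bif m.testBit i then s + omasks.getD i 0 else s) 0

theorem oset_table : ((List.range 128).all fun m => (List.range 64).all fun x =>
    (oset m).testBit x == (x == 56 || (List.range 7).any fun i => m.testBit i && orbR x == reps.getD i 0)) = true := by
  decide +kernel

/-- pairs in the set with given sum -/
def cnt2 (O y : ℕ) : ℕ := ((List.range 64).filter fun z => O.testBit z && O.testBit (y ^^^ z)).length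

/-- triples in the set with given sum -/
def cnt3 (O y : ℕ) : ℕ := ((List.range 64).map fun z => bif O.testBit z then cnt2 O (y ^^^ z) else 0).sum

theorem filter_table : ((List.range 128).all fun m =>
    [0, 1, 4, 113, 116].contains m || (List.range 64).any fun y =>
      (oset m).testBit y && (cnt2 (oset m) y != cnt2 (oset m) 56 || cnt3 (oset m) y != cnt3 (oset m) 56)) = true := by
  decide +kernel

end CfsgLib.TwelveCent
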