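import Mathlib

/-!
The centraliser in the alternating group of degree twelve of a fixed-point-free involution: an
elementary abelian subgroup of order 64, a Sylow 2-subgroup and the action on the six transpositions.
-/

set_option autoImplicit false
set_option maxRecDepth 100000

namespace CfsgLib.TwelveCent

open Equiv

/-- permutations of twelve letters -/
abbrev P12 : Type := Equiv.Perm (Fin 12)

/-- `(01)(23)(45)(67)(89)(10 11)` -/
def alp : P12 :=
  swap (0 : Fin 12) 1 * swap (2 : Fin 12) 3 * swap (4 : Fin 12) 5 * swap (6 : Fin 12) 7 * swap (8 : Fin 12) 9 *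
    swap (10 : Fin 12) 11

/-- its centraliser among the even permutations -/
abbrev X12 : Subgroup P12 := alternatingGroup (Fin 12) ⊓ Subgroup.centralizer ({alp} : Set P12)

theorem mem_X12 {g : P12} : g ∈ X12 ↔ Perm.sign g = 1 ∧ g * alp = alp * g := by
  rw [Subgroup.mem_inf, Perm.mem_alternatingGroup, Subgroup.mem_centralizer_singleton_iff]

/-- a test for membership -/
def inX (g : P12) : Bool := decide (Perm.sign g = 1) && (List.finRange 12).all fun i => g (alp i) == alp (g i)

theorem inX_iff {g : P12} : inX g = true ↔ g ∈ X12 := by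
  rw [mem_X12, inX, Bool.and_eq_true, decide_eq_true_eq, List.all_eq_true]
  refine and_congr_right fun _ => ⟨fun h => Equiv.ext fun i => ?_, fun h i _ => ?_⟩
  · simpa using h i (List.mem_finRange i)
  · simpa using DFunLike.congr_fun h i

/-- equality of permutations as a test -/
def same (g h : P12) : Bool := (List.finRange 12).all fun i => g i == h i

theorem same_iff {g h : P12} : same g h = true ↔ g = h := by
  rw [same, List.all_eq_true]
  exact ⟨fun e => Equiv.ext fun i => by simpa using e i (List.mem_finRange i), fun e i _ => by simp [e]⟩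

/-- a power with exponent a truth value -/
def pw (b : Bool) (g : P12) : P12 := bif b then g else 1

theorem xor_quad : ∀ (i : Fin 12) (m : Fin 4), i.1 ^^^ m.1 < 12 ∧ (i.1 ^^^ m.1) / 4 = i.1 / 4 := by decide +kernel

/-- translation inside the three quads `{0,1,2,3}`, `{4,5,6,7}`, `{8,9,10,11}` -/
def amask (n : ℕ) (q : ℕ) : Fin 4 :=
  ⟨2 * (n >>> q % 2) + n >>> (q + 3) % 2, by omega⟩

/-- the image of a letter under an element of the abelian subgroup -/
def avF (n : ℕ) (i : Fin 12) : Fin 12 := ⟨i.1 ^^^ (amask n (i.1 / 4)).1, (xor_quad i _).1⟩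

theorem avF_avF (n : ℕ) (i : Fin 12) : avF n (avF n i) = i := by
  apply Fin.ext
  simp only [avF, (xor_quad i (amask n (i.1 / 4))).2, Nat.xor_assoc, Nat.xor_self, Nat.xor_zero]

/-- the elements of the elementary abelian subgroup, by binary coordinates -/
def av (n : ℕ) : P12 := ⟨avF n, avF n, avF_avF n, avF_avF n⟩

/-- the permutation of an involutive map -/
def ofInv (f : Fin 12 → Fin 12) (h : ∀ i, f (f i) = i) : P12 := ⟨f, f, h, h⟩

/-- `(01)(45)` -/
def eA : P12 := ofInv ([1, 0, 2, 3, 5, 4, 6, 7, 8, 9, 10, 11].getD ·.1 0) (by decide +kernel)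
/-- `(45)(89)` -/
def eC : P12 := ofInv ([0, 1, 2, 3, 5, 4, 6, 7, 9, 8, 10, 11].getD ·.1 0) (by decide +kernel)
/-- `(04)(15)(26)(37)` -/
def qAB : P12 := ofInv ([4, 5, 6, 7, 0, 1, 2, 3, 8, 9, 10, 11].getD ·.1 0) (by decide +kernel)
/-- `(48)(59)(6 10)(7 11)` -/
def qBC : P12 := ofInv ([0, 1, 2, 3, 8, 9, 10, 11, 4, 5, 6, 7].getD ·.1 0) (by decide +kernel)

/-- a complement of `av` in a Sylow 2-subgroup -/
def kv (k : ℕ) : P12 := pw (k.testBit 0) eA * pw (k.testBit 1) eC * pw (k.testBit 2) qAB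

/-- exchange of the first two coordinates in each half -/
def pB (x : ℕ) : ℕ :=
  (x / 2 % 2) + 2 * (x % 2) + 4 * (x / 4 % 2) + 8 * (x / 16 % 2) + 16 * (x / 8 % 2) + 32 * (x / 32 % 2)

/-- exchange of the last two coordinates in each half -/
def pC (x : ℕ) : ℕ :=
  (x % 2) + 2 * (x / 4 % 2) + 4 * (x / 2 % 2) + 8 * (x / 8 % 2) + 16 * (x / 32 % 2) + 32 * (x / 16 % 2)

/-- the flips of the complement -/
def cmask (k : ℕ) : ℕ := [0, 3, 6, 5].getD (k % 4) 0

/-- conjugation by `kv k` in coordinates -/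
def act (k x : ℕ) : ℕ :=
  let y := bif k.testBit 2 then pB x else x
  y ^^^ ((y % 8 &&& cmask k) * 8)

/-- the four maps of the stabiliser -/
def g4 (i x : ℕ) : ℕ := bif i == 0 then act 1 x else bif i == 1 then act 2 x else bif i == 2 then act 4 x else pC x

/-- the permutation behind a map of the stabiliser -/
def g4P (i : ℕ) : P12 := bif i == 0 then eA else bif i == 1 then eC else bif i == 2 then qAB else qBC

theorem gens_mem : ([eA, eC, qAB, qBC].all inX) = true := by decide +kernel

theorem av_mem_table : ((List.range 64).all fun x => inX (av x)) = true := by decide +kernel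

theorem av_mem {n : ℕ} (hn : n < 64) : av n ∈ X12 :=
  inX_iff.1 (List.all_eq_true.1 av_mem_table n (List.mem_range.2 hn))

theorem kv_mem (n : ℕ) : kv n ∈ X12 := by
  have h := List.all_eq_true.1 gens_mem
  have hp : ∀ (b : Bool) g, g ∈ [eA, eC, qAB, qBC] → pw b g ∈ X12 := by
    intro b g hg
    cases b
    · exact one_mem _
    · exact inX_iff.1 (h g hg)
  unfold kv
  repeat' apply mul_mem
  all_goals exact hp _ _ (by simp)

theorem g4P_mem (i : ℕ) : g4P i ∈ X12 := by
  have h := List.all_eq_true.1 gens_mem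
  unfold g4P
  rcases Bool.eq_false_or_eq_true (i == 0) with e | e <;> rcases Bool.eq_false_or_eq_true (i == 1) with e' | e' <;>
    rcases Bool.eq_false_or_eq_true (i == 2) with e'' | e'' <;> rw [e, e', e''] <;>
      exact inX_iff.1 (h _ (by simp))

theorem alp_mem : alp ∈ X12 := inX_iff.1 (by decide +kernel)

theorem av_zero : av 0 = 1 := same_iff.1 (by decide +kernel)

theorem av_alp : av 56 = alp := same_iff.1 (by decide +kernel)

theorem av_table : ((List.range 64).all fun x => (List.range 64).all fun y => same (av x * av y) (av (x ^^^ y))) = true := by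
  decide +kernel

theorem av_mul {x y : ℕ} (hx : x < 64) (hy : y < 64) : av x * av y = av (x ^^^ y) :=
  same_iff.1 (List.all_eq_true.1 (List.all_eq_true.1 av_table x (List.mem_range.2 hx)) y (List.mem_range.2 hy))

theorem xor_lt {x y : ℕ} (hx : x < 64) (hy : y < 64) : x ^^^ y < 64 := Nat.xor_lt_two_pow (n := 6) hx hy

theorem av_sq {x : ℕ} (hx : x < 64) : av x * av x = 1 := by rw [av_mul hx hx, Nat.xor_self, av_zero]

theorem av_comm {x y : ℕ} (hx : x < 64) (hy : y < 64) : av x * av y = av y * av x := by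
  rw [av_mul hx hy, av_mul hy hx, Nat.xor_comm]

/-- the coordinates of a regular element -/
def dA (g : P12) : ℕ :=
  let a := (g 0).1; let b := (g 4).1 - 4; let c := (g 8).1 - 8
  (a / 2 % 2) + 2 * (b / 2 % 2) + 4 * (c / 2 % 2) + 8 * (a % 2) + 16 * (b % 2) + 32 * (c % 2)

/-- membership in the abelian subgroup -/
def inA (g : P12) : Bool := Nat.blt (dA g) 64 && same (av (dA g)) g

theorem dA_table : ((List.range 64).all fun x => dA (av x) == x) = true := by decide +kernel

theorem av_inj {x y : ℕ} (hx : x < 64) (hy : y < 64) (h : av x = av y) : x = y := by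
  have h1 := List.all_eq_true.1 dA_table x (List.mem_range.2 hx)
  have h2 := List.all_eq_true.1 dA_table y (List.mem_range.2 hy)
  rw [beq_iff_eq] at h1 h2
  rw [← h1, h, h2]

theorem inA_iff {g : P12} : inA g = true ↔ ∃ x < 64, av x = g := by
  rw [inA, Bool.and_eq_true, Nat.blt_eq, same_iff]
  refine ⟨fun h => ⟨_, h.1, h.2⟩, ?_⟩
  rintro ⟨x, hx, rfl⟩
  rw [beq_iff_eq.1 (List.all_eq_true.1 dA_table x (List.mem_range.2 hx))]
  exact ⟨hx, rfl⟩

theorem g4_table : ((List.range 4).all fun i => (List.range 64).all fun x =>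
    Nat.blt (g4 i x) 64 && same (g4P i * av x) (av (g4 i x) * g4P i)) = true := by decide +kernel

theorem g4_conj {i x : ℕ} (hi : i < 4) (hx : x < 64) : g4 i x < 64 ∧ g4P i * av x * (g4P i)⁻¹ = av (g4 i x) := by
  have h := List.all_eq_true.1 (List.all_eq_true.1 g4_table i (List.mem_range.2 hi)) x (List.mem_range.2 hx)
  rw [Bool.and_eq_true, Nat.blt_eq, same_iff] at h
  exact ⟨h.1, by rw [mul_inv_eq_iff_eq_mul]; exact h.2⟩

theorem act_table : ((List.range 8).all fun k => (List.range 64).all fun x =>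
    Nat.blt (act k x) 64 && same (kv k * av x) (av (act k x) * kv k)) = true := by decide +kernel

theorem act_conj {k x : ℕ} (hk : k < 8) (hx : x < 64) : act k x < 64 ∧ kv k * av x * (kv k)⁻¹ = av (act k x) := by
  have h := List.all_eq_true.1 (List.all_eq_true.1 act_table k (List.mem_range.2 hk)) x (List.mem_range.2 hx)
  rw [Bool.and_eq_true, Nat.blt_eq, same_iff] at h
  exact ⟨h.1, by rw [mul_inv_eq_iff_eq_mul]; exact h.2⟩

theorem kv_table : ((List.range 8).all fun k => (List.range 8).all fun l =>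
    (List.range 8).any fun m => same (kv k * kv l) (kv m)) = true := by decide +kernel

theorem kv_mul {k l : ℕ} (hk : k < 8) (hl : l < 8) : ∃ m < 8, kv k * kv l = kv m := by
  have h := List.all_eq_true.1 (List.all_eq_true.1 kv_table k (List.mem_range.2 hk)) l (List.mem_range.2 hl)
  obtain ⟨m, hm, e⟩ := List.any_eq_true.1 h
  exact ⟨m, List.mem_range.1 hm, same_iff.1 e⟩

theorem kv_out : ((List.range 8).all fun k => k == 0 || !inA (kv k)) = true := by decide +kernel

theorem kv_zero : kv 0 = 1 := same_iff.1 (by decide +kernel)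

theorem kv_eq_av {k : ℕ} (hk : k < 8) (h : ∃ x < 64, av x = kv k) : k = 0 := by
  have h' := List.all_eq_true.1 kv_out k (List.mem_range.2 hk)
  rw [Bool.or_eq_true, beq_iff_eq, Bool.not_eq_true', inA_iff.2 h] at h'
  simpa using h'

/-- the elementary abelian subgroup of order 64 -/
def A12s : Subgroup P12 where
  carrier := {g | ∃ x < 64, av x = g}
  one_mem' := ⟨0, by norm_num, av_zero⟩
  mul_mem' := by
    rintro _ _ ⟨x, hx, rfl⟩ ⟨y, hy, rfl⟩
    exact ⟨_, xor_lt hx hy, (av_mul hx hy).symm⟩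
  inv_mem' := by
    rintro _ ⟨x, hx, rfl⟩
    exact ⟨x, hx, (inv_eq_of_mul_eq_one_left (av_sq hx)).symm⟩

theorem mem_A12s {g : P12} : g ∈ A12s ↔ ∃ x < 64, av x = g := Iff.rfl

theorem A12s_le : A12s ≤ X12 := by
  rintro _ ⟨x, hx, rfl⟩
  exact av_mem hx

theorem card_A12s : Nat.card A12s = 64 := by
  have e : Fin 64 ≃ A12s := Equiv.ofBijective (fun x => ⟨av x.1, x.1, x.2, rfl⟩)
    ⟨fun x y h => Fin.ext (av_inj x.2 y.2 (congrArg Subtype.val h)), by
      rintro ⟨_, x, hx, rfl⟩
      exact ⟨⟨x, hx⟩, rfl⟩⟩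
  rw [← Nat.card_congr e, Nat.card_eq_fintype_card, Fintype.card_fin]

/-- the Sylow 2-subgroup -/
def S12 : Subgroup P12 where
  carrier := {g | ∃ x < 64, ∃ k < 8, av x * kv k = g}
  one_mem' := ⟨0, by norm_num, 0, by norm_num, by rw [av_zero, kv_zero, mul_one]⟩
  mul_mem' := by
    rintro _ _ ⟨x, hx, k, hk, rfl⟩ ⟨y, hy, l, hl, rfl⟩
    obtain ⟨ha, e⟩ := act_conj hk hy
    obtain ⟨m, hm, e'⟩ := kv_mul hk hl
    refine ⟨_, xor_lt hx ha, m, hm, ?_⟩
    rw [← av_mul hx ha, ← e, ← e']
    group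
  inv_mem' := by
    rintro _ ⟨x, hx, k, hk, rfl⟩
    obtain ⟨l, hl, e⟩ : ∃ l < 8, kv l = (kv k)⁻¹ := by
      have h : ((List.range 8).all fun k => (List.range 8).any fun l => same (kv l * kv k) 1) = true := by
        decide +kernel
      obtain ⟨l, hl, e⟩ := List.any_eq_true.1 (List.all_eq_true.1 h k (List.mem_range.2 hk))
      exact ⟨l, List.mem_range.1 hl, (inv_eq_of_mul_eq_one_left (same_iff.1 e)).symm⟩
    obtain ⟨ha, e'⟩ := act_conj hl hx
    refine ⟨_, ha, l, hl, ?_⟩
    rw [← e', inv_mul_cancel_right, e, mul_inv_rev, inv_eq_of_mul_eq_one_left (av_sq hx)]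

theorem S12_le : S12 ≤ X12 := by
  rintro _ ⟨x, hx, k, _, rfl⟩
  exact mul_mem (av_mem hx) (kv_mem k)

theorem card_S12 : Nat.card S12 = 512 := by
  have e : Fin 64 × Fin 8 ≃ S12 :=
    Equiv.ofBijective (fun p => ⟨av p.1.1 * kv p.2.1, p.1.1, p.1.2, p.2.1, p.2.2, rfl⟩) ⟨fun p q h => ?_, by
      rintro ⟨_, x, hx, k, hk, rfl⟩
      exact ⟨(⟨x, hx⟩, ⟨k, hk⟩), rfl⟩⟩
  · rw [← Nat.card_congr e, Nat.card_eq_fintype_card, Fintype.card_prod, Fintype.card_fin, Fintype.card_fin]
  · have h' : av p.1.1 * kv p.2.1 = av q.1.1 * kv q.2.1 := congrArg Subtype.val h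
    obtain ⟨m, hm, e⟩ : ∃ m < 8, kv p.2.1 * (kv q.2.1)⁻¹ = kv m := by
      obtain ⟨l, hl, e⟩ : ∃ l < 8, kv l = (kv q.2.1)⁻¹ := by
        have h : ((List.range 8).all fun k => (List.range 8).any fun l => same (kv l * kv k) 1) = true := by
          decide +kernel
        obtain ⟨l, hl, e⟩ := List.any_eq_true.1 (List.all_eq_true.1 h _ (List.mem_range.2 q.2.2))
        exact ⟨l, List.mem_range.1 hl, (inv_eq_of_mul_eq_one_left (same_iff.1 e)).symm⟩
      obtain ⟨m, hm, e'⟩ := kv_mul p.2.2 hl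
      exact ⟨m, hm, by rw [← e', e]⟩
    have hm' : kv p.2.1 * (kv q.2.1)⁻¹ = av p.1.1 * av q.1.1 := by
      have : kv p.2.1 * (kv q.2.1)⁻¹ = (av p.1.1)⁻¹ * av q.1.1 := by
        rw [eq_inv_mul_iff_mul_eq, ← mul_assoc, h', mul_inv_cancel_right]
      rw [this, inv_eq_of_mul_eq_one_left (av_sq p.1.2)]
    have h0 := kv_eq_av hm ⟨_, xor_lt p.1.2 q.1.2, by rw [← e, hm', av_mul p.1.2 q.1.2]⟩
    rw [h0, kv_zero, mul_inv_eq_one] at e
    rw [e] at h'
    have hx := av_inj p.1.2 q.1.2 (mul_right_cancel h')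
    have hk : p.2.1 = q.2.1 := by
      have h : ((List.range 8).all fun k => (List.range 8).all fun l => k == l || !same (kv k) (kv l)) = true := by
        decide +kernel
      have := List.all_eq_true.1 (List.all_eq_true.1 h _ (List.mem_range.2 p.2.2)) _ (List.mem_range.2 q.2.2)
      rw [Bool.or_eq_true, beq_iff_eq, same_iff.2 e] at this
      simpa using this
    exact Prod.ext (Fin.ext hx) (Fin.ext hk)

theorem card_X12 : Nat.card X12 = 23040 := by
  have hfull : Nat.card (Subgroup.centralizer ({alp} : Set P12)) = 46080 := by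
    rw [Equiv.Perm.nat_card_centralizer]
    decide +kernel
  set C := Subgroup.centralizer ({alp} : Set P12)
  let s : C →* ℤˣ := (Perm.sign : P12 →* ℤˣ).comp C.subtype
  have hsurj : Function.Surjective s := by
    intro e
    rcases Int.units_eq_one_or e with rfl | rfl
    · exact ⟨1, map_one _⟩
    · refine ⟨⟨swap 0 1, Subgroup.mem_centralizer_singleton_iff.2 (by decide +kernel)⟩, ?_⟩
      show Perm.sign (swap (0 : Fin 12) 1) = -1
      exact Perm.sign_swap (by decide)
  have e : X12 ≃ s.ker :=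
    { toFun := fun g => ⟨⟨g.1, g.2.2⟩, Perm.mem_alternatingGroup.1 g.2.1⟩
      invFun := fun g => ⟨g.1.1, Perm.mem_alternatingGroup.2 g.2, g.1.2⟩
      left_inv := fun _ => rfl
      right_inv := fun _ => rfl }
  rw [Nat.card_congr e]
  have h := Subgroup.card_mul_index s.ker
  rw [Subgroup.index_ker, MonoidHom.range_eq_top.2 hsurj, Subgroup.card_top, hfull] at h
  have h2 : Nat.card ℤˣ = 2 := by rw [Nat.card_eq_fintype_card]; rfl
  rw [h2] at h
  omega

end CfsgLib.TwelveCent
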