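import Cfsg.Agent.Lib.TwelveCent.Setup
import Cfsg.Agent.S0215
import Cfsg.Agent.Lib.OneToFive.Count
import Cfsg.Agent.Lib.M22Recog.Split
import Cfsg.Agent.Lib.Groups.SelfCentPrime
import Cfsg.Prelude.Def_CaseTheorems

/-!
The possible fusion patterns of the central involution in the abelian subgroup of order 64.
-/

set_option autoImplicit false
set_option linter.style.haveILetI false
set_option linter.unusedSectionVars false

namespace CfsgLib.TwelveCent

open Equiv

variable {G : Type*} [Group G]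

/-- a group with the given centraliser gives the setting -/
theorem exists_std [Finite G] (α : G) (hα : orderOf α = 2) (S : Sylow 2 G)
    (hαS : α ∈ (S : Subgroup G) ⊓ Subgroup.centralizer ((S : Subgroup G) : Set G))
    (e : ↥(Subgroup.centralizer ({α} : Set G)) ≃* ↥X12) :
    ∃ φ : X12 →* G, Std φ ∧ em φ alp = α := by
  haveI := Fact.mk Nat.prime_two
  set C := Subgroup.centralizer ({α} : Set G) with hC
  let φ : X12 →* G := C.subtype.comp e.symm.toMonoidHom
  have hαC : α ∈ C := Subgroup.mem_centralizer_singleton_iff.2 rfl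
  set z := e ⟨α, hαC⟩ with hz
  have hzc : ∀ t : X12, z * t = t * z := fun t => by
    obtain ⟨c, rfl⟩ := e.surjective t
    rw [hz, ← map_mul, ← map_mul]
    exact congrArg e (Subtype.ext (Subgroup.mem_centralizer_singleton_iff.1 c.2).symm)
  have hzv : ∀ g ∈ X12, (z : P12) * g = g * z := fun g hg => congrArg Subtype.val (hzc ⟨g, hg⟩)
  have hz1 : (z : P12) ≠ 1 := fun h => by
    have : z = 1 := Subtype.ext h
    rw [hz, MulEquiv.map_eq_one_iff, Subtype.ext_iff] at this
    exact CfsgLib.Invol.ne_one_of_orderOf_two hα this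
  have hzalp : (z : P12) = alp := by
    obtain ⟨x, hx, hxz⟩ := eq_av_of_comm (g := (z : P12)) fun x hx => hzv _ (av_mem hx)
    have h := List.all_eq_true.1 only_centre x (List.mem_range.2 hx)
    rw [Bool.or_eq_true, Bool.or_eq_true, beq_iff_eq, beq_iff_eq] at h
    rcases h with (rfl | rfl) | h
    · exact absurd (hxz.symm.trans av_zero) hz1
    · rw [← hxz, av_alp]
    · obtain ⟨i, hi, hne⟩ := List.any_eq_true.1 h
      obtain ⟨hlt, he⟩ := g4_conj (List.mem_range.1 hi) hx
      refine absurd (av_inj hlt hx ?_) (bne_iff_ne.1 hne)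
      rw [← he, hxz, ← hzv _ (g4P_mem i), mul_inv_cancel_right]
  have hφα : em φ alp = α := by
    rw [em_apply φ alp_mem, show (⟨alp, alp_mem⟩ : X12) = z from Subtype.ext hzalp.symm]
    show ((e.symm (e ⟨α, hαC⟩) : C) : G) = α
    rw [e.symm_apply_apply]
  refine ⟨φ, ⟨fun p q h => e.symm.injective (Subtype.ext h), fun g hg => ?_, ?_⟩, hφα⟩
  · rw [hφα] at hg
    have hgC : g ∈ C := Subgroup.mem_centralizer_singleton_iff.2 hg
    refine ⟨_, (e ⟨g, hgC⟩).2, ?_⟩
    rw [em_apply φ (e ⟨g, hgC⟩).2]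
    show ((e.symm ⟨(e ⟨g, hgC⟩).1, _⟩ : C) : G) = g
    rw [Subtype.coe_eta, e.symm_apply_apply]
  · let T : Subgroup G := (S12.subgroupOf X12).map φ
    have hTcard : Nat.card T = 512 := by
      rw [Subgroup.card_map_of_injective (fun p q h => e.symm.injective (Subtype.ext h)),
        Nat.card_congr (Subgroup.subgroupOfEquivOfLe S12_le).toEquiv, card_S12]
    have hT : IsPGroup 2 T := IsPGroup.of_card (n := 9) (by rw [hTcard]; norm_num)
    obtain ⟨P, hP⟩ := hT.exists_le_sylow
    have hS : (S : Subgroup G) ≤ C := fun s hs =>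
      Subgroup.mem_centralizer_singleton_iff.2 (Subgroup.mem_centralizer_iff.1 hαS.2 s hs)
    have hle : Nat.card (P : Subgroup G) ≤ 512 := by
      rw [show Nat.card (P : Subgroup G) = Nat.card (S : Subgroup G) by
        rw [P.card_eq_multiplicity, S.card_eq_multiplicity]]
      obtain ⟨k, hk⟩ := IsPGroup.iff_card.1 S.isPGroup'
      have hd := Subgroup.card_dvd_of_le hS
      rw [Nat.card_congr e.toEquiv, card_X12, hk] at hd
      have hk9 : k ≤ 9 := by
        by_contra hne
        have : 2 ^ 10 ∣ 23040 := (pow_dvd_pow 2 (by omega : 10 ≤ k)).trans hd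
        omega
      rw [hk]
      exact (Nat.pow_le_pow_right (by norm_num) hk9).trans (by norm_num)
    have hPT : T = (P : Subgroup G) := Subgroup.eq_of_le_of_card_ge hP (hTcard.symm ▸ hle)
    refine ⟨P, fun g => ?_⟩
    show g ∈ (P : Subgroup G) ↔ _
    rw [← hPT]
    constructor
    · rintro ⟨⟨x, hx⟩, hxS, rfl⟩
      exact ⟨x, hxS, em_apply φ hx⟩
    · rintro ⟨x, hxS, rfl⟩
      exact ⟨⟨x, S12_le hxS⟩, hxS, (em_apply φ (S12_le hxS)).symm⟩

variable {φ : X12 →* G}

/-- the coordinates conjugate to the central involution form the set of `m` -/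
def Cls (φ : X12 →* G) (m : ℕ) : Prop :=
  ∀ x < 64, IsConj (em φ alp) (a φ x) ↔ (oset m).testBit x = true

theorem a_conj_g4 {i x : ℕ} (hi : i < 4) (hx : x < 64) :
    em φ (g4P i) * a φ x * (em φ (g4P i))⁻¹ = a φ (g4 i x) := by
  rw [a, a, ← em_conj φ (g4P_mem i) (av_mem hx), (g4_conj hi hx).2]

theorem isConj_orbR {x : ℕ} (hx : x < 64) (h0 : x ≠ 0) : IsConj (a φ (orbR x)) (a φ x) ∧ orbR x < 64 := by
  have h := List.all_eq_true.1 orb_table x (List.mem_range.2 hx)
  rw [Bool.or_eq_true, beq_iff_eq, or_iff_right h0, Bool.and_eq_true, Bool.and_eq_true, Nat.blt_eq, beq_iff_eq,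
    List.all_eq_true] at h
  obtain ⟨⟨hr, e⟩, hw⟩ := h
  refine ⟨?_, hr⟩
  suffices ∀ w : List ℕ, (∀ i ∈ w, Nat.blt i 4 = true) → appW w (orbR x) < 64 ∧
      IsConj (a φ (orbR x)) (a φ (appW w (orbR x))) by simpa [e] using (this _ hw).2
  intro w hw
  induction w with
  | nil => exact ⟨hr, IsConj.refl _⟩
  | cons i w ih =>
    obtain ⟨hlt, hc⟩ := ih fun j hj => hw j (List.mem_cons_of_mem _ hj)
    have hi : i < 4 := by simpa [Nat.blt_eq] using hw i List.mem_cons_self
    exact ⟨(g4_conj hi hlt).1, hc.trans (isConj_iff.2 ⟨_, a_conj_g4 hi hlt⟩)⟩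

theorem alp_alp : ∀ j, alp (alp j) = j := by decide +kernel

/-- commutators with elements preserving the six pairs square to one -/
theorem comm_flip_sq {t f : P12} (ht : t ∈ X12) (hfX : f ∈ X12) (hpres : ∀ i, f i = i ∨ f i = alp i) :
    t * f * t⁻¹ * f⁻¹ * (t * f * t⁻¹ * f⁻¹) = 1 := by
  set d := t * f * t⁻¹ * f⁻¹ with hd
  have hdX : d ∈ X12 := mul_mem (mul_mem (mul_mem ht hfX) (inv_mem ht)) (inv_mem hfX)
  have halp : ∀ j, alp (alp j) = j := by decide +kernel
  have hta : ∀ j, t (alp j) = alp (t j) := fun j => DFunLike.congr_fun (mem_X12.1 ht).2 j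
  have hfa : ∀ j, f (alp j) = alp (f j) := fun j => DFunLike.congr_fun (mem_X12.1 hfX).2 j
  have hpres' : ∀ i, f⁻¹ i = i ∨ f⁻¹ i = alp i := fun i => by
    rcases hpres (f⁻¹ i) with h | h
    · left; rw [show f (f⁻¹ i) = i from f.apply_symm_apply i] at h; exact h.symm
    · right; rw [show f (f⁻¹ i) = i from f.apply_symm_apply i] at h
      exact (halp _).symm.trans (congrArg alp h.symm)
  have hsub : ∀ i, d i = i ∨ d i = alp i := by
    intro i
    simp only [hd, Perm.mul_apply]
    have ht1 : t (t⁻¹ (f⁻¹ i)) = f⁻¹ i := t.apply_symm_apply _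
    rcases hpres (t⁻¹ (f⁻¹ i)) with e' | e'
    · rw [e', ht1]; exact hpres' i
    · rw [e', hta, ht1]
      rcases hpres' i with e | e
      · right; rw [e]
      · left; rw [e, halp]
  refine Equiv.ext fun i => ?_
  have hda : d (alp i) = alp (d i) := DFunLike.congr_fun (mem_X12.1 hdX).2 i
  rw [Perm.mul_apply, Perm.one_apply]
  rcases hsub i with e | e
  · rw [e, e]
  · rw [e, hda, e, halp]

theorem sep_table : ((List.finRange 12).all fun i => (List.finRange 12).all fun j =>
    j == i || j == alp i || [av 8, av 16, av 32, eA, eC].any fun f => (f i == i) != (f j == j)) = true := by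
  decide +kernel

/-- the five flips separate the pairs -/
theorem sep_pairs (i j : Fin 12) (h : ∀ f ∈ [av 8, av 16, av 32, eA, eC], (f i = i ↔ f j = j)) :
    j = i ∨ j = alp i := by
  have h' := List.all_eq_true.1 (List.all_eq_true.1 sep_table i (List.mem_finRange i)) j (List.mem_finRange j)
  rw [Bool.or_eq_true, Bool.or_eq_true, beq_iff_eq, beq_iff_eq] at h'
  rcases h' with e | e
  · exact e
  obtain ⟨f, hf, hne⟩ := List.any_eq_true.1 e
  refine absurd (Bool.eq_iff_iff.2 ?_) (bne_iff_ne.1 hne)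
  rw [beq_iff_eq, beq_iff_eq]
  exact h f hf

theorem flips_ok : ∀ f ∈ [av 8, av 16, av 32, eA, eC], f ∈ X12 ∧ ∀ i, f i = i ∨ f i = alp i := by
  have h : ([av 8, av 16, av 32, eA, eC].all fun f => inX f && (List.finRange 12).all fun i => f i == i || f i == alp i) = true := by
    decide +kernel
  intro f hf
  have := List.all_eq_true.1 h f hf
  rw [Bool.and_eq_true, List.all_eq_true] at this
  exact ⟨inX_iff.1 this.1, fun i => by simpa [Bool.or_eq_true] using this.2 i (List.mem_finRange i)⟩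

namespace Std

variable [Finite G]

theorem sylow_cent (M : Std φ) {P : Sylow 2 G} (hP : ∀ g : G, g ∈ P ↔ ∃ x ∈ S12, em φ x = g) {x : ℕ} (hx : x < 64)
    (hfix : ∀ k < 8, act k x = x) : (P : Subgroup G) ≤ Subgroup.centralizer ({a φ x} : Set G) := by
  intro g hg
  obtain ⟨p, ⟨y, hy, k, hk, rfl⟩, rfl⟩ := (hP g).1 hg
  have h := (act_conj hk hx).2
  rw [hfix k hk, mul_inv_eq_iff_eq_mul] at h
  rw [Subgroup.mem_centralizer_singleton_iff, a, ← em_mul φ (mul_mem (av_mem hy) (kv_mem k)) (av_mem hx),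
    ← em_mul φ (av_mem hx) (mul_mem (av_mem hy) (kv_mem k)), mul_assoc, h, ← mul_assoc, ← mul_assoc, av_comm hy hx]

/-- the other fixed element is not conjugate -/
theorem not_conj_24 (M : Std φ) : ¬ IsConj (em φ alp) (a φ 24) := by
  haveI := Fact.mk Nat.prime_two
  intro hcj
  obtain ⟨g, hg⟩ := isConj_iff.1 hcj
  obtain ⟨P, hP⟩ := M.syl
  have hfix : ∀ k < 8, act k 56 = 56 ∧ act k 24 = 24 := fun k hk => by
    simpa using List.all_eq_true.1 fixed_alp k (List.mem_range.2 hk)
  have h56 := M.sylow_cent hP (x := 56) (by norm_num) fun k hk => (hfix k hk).1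
  have h24 := M.sylow_cent hP (x := 24) (by norm_num) fun k hk => (hfix k hk).2
  rw [a_alp] at h56
  set Z := Subgroup.centralizer ({a φ 24} : Set G)
  have hgP : ((g • P : Sylow 2 G) : Subgroup G) ≤ Z := by
    rintro _ ⟨p, hp, rfl⟩
    refine Subgroup.mem_centralizer_singleton_iff.2 ?_
    show g * p * g⁻¹ * a φ 24 = a φ 24 * (g * p * g⁻¹)
    rw [← hg]
    exact conj_comm (Subgroup.mem_centralizer_singleton_iff.1 (h56 hp)) g
  obtain ⟨c, hc⟩ := MulAction.exists_smul_eq Z ((g • P).subtype hgP) (P.subtype h24)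
  set n := (c : G) * g with hn
  have hnP : ∀ p ∈ P, n * p * n⁻¹ ∈ P := by
    intro p hp
    have hm : (⟨g * p * g⁻¹, hgP ⟨p, hp, rfl⟩⟩ : Z) ∈ ((g • P).subtype hgP : Subgroup Z) := ⟨p, hp, rfl⟩
    have h' : c * (⟨g * p * g⁻¹, hgP ⟨p, hp, rfl⟩⟩ : Z) * c⁻¹ ∈ (P.subtype h24 : Subgroup Z) := by
      rw [← hc]; exact ⟨_, hm, rfl⟩
    have h'' : (c : G) * (g * p * g⁻¹) * (c : G)⁻¹ ∈ P := h'
    rwa [show n * p * n⁻¹ = (c : G) * (g * p * g⁻¹) * (c : G)⁻¹ by simp only [hn]; group]
  have hnα : n * em φ alp * n⁻¹ = a φ 24 := by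
    rw [show n * em φ alp * n⁻¹ = (c : G) * (g * em φ alp * g⁻¹) * (c : G)⁻¹ by simp only [hn]; group, hg,
      Subgroup.mem_centralizer_singleton_iff.1 c.2, mul_inv_cancel_right]
  have hninv : ∀ p ∈ P, n⁻¹ * p * n ∈ P := by
    intro p hp
    let F : ↥(P : Subgroup G) → ↥(P : Subgroup G) := fun q => ⟨n * q.1 * n⁻¹, hnP q.1 q.2⟩
    obtain ⟨⟨q, hq⟩, e⟩ := Finite.surjective_of_injective (f := F)
      (fun q r e => Subtype.ext (by
        have e1 : n * q.1 * n⁻¹ = n * r.1 * n⁻¹ := congrArg Subtype.val e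
        simpa using e1)) ⟨p, hp⟩
    have e' : n * q * n⁻¹ = p := congrArg Subtype.val e
    rw [← e', show n⁻¹ * (n * q * n⁻¹) * n = q by group]
    exact hq
  have hEP : E64 φ ≤ (P : Subgroup G) := by
    rintro _ ⟨x, hx, rfl⟩
    exact (hP _).2 ⟨av x, ⟨x, hx, 0, by norm_num, by rw [kv_zero, mul_one]⟩, rfl⟩
  have hnE : ∀ x ∈ E64 φ, n⁻¹ * x * n ∈ E64 φ := fun x hx => by
    simpa using M.weakly _ n⁻¹ P.isPGroup' hEP (fun y hy => by
      rw [inv_inv]; exact hninv y (hEP hy)) x hx
  -- triple commutators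
  have hbr : ∀ x < 64, ∀ p ∈ P, ∃ k < 8, a φ x * (p * a φ x * p⁻¹) = a φ (x ^^^ act k x) := by
    intro x hx p hp
    obtain ⟨q, ⟨y, hy, k, hk, rfl⟩, rfl⟩ := (hP p).1 hp
    obtain ⟨ha, e⟩ := act_conj hk hx
    refine ⟨k, hk, ?_⟩
    rw [a, ← em_conj φ (mul_mem (av_mem hy) (kv_mem k)) (av_mem hx),
      show av y * kv k * av x * (av y * kv k)⁻¹ = av y * (kv k * av x * (kv k)⁻¹) * (av y)⁻¹ by group, e,
      av_comm hy ha, mul_inv_cancel_right]
    exact a_mul hx ha
  obtain ⟨a₀, ha₀, h'⟩ := List.any_eq_true.1 triple_hit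
  obtain ⟨i, hi, h'⟩ := List.any_eq_true.1 h'
  obtain ⟨j, hj, h'⟩ := List.any_eq_true.1 h'
  obtain ⟨l, hl, h'⟩ := List.any_eq_true.1 h'
  rw [List.mem_range] at ha₀ hi hj hl
  simp only [beq_iff_eq] at h'
  have hk : ∀ k < 8, em φ (kv k) ∈ P := fun k hk =>
    (hP _).2 ⟨kv k, ⟨0, by norm_num, k, hk, by rw [av_zero, one_mul]⟩, rfl⟩
  have hstep : ∀ k < 8, ∀ x < 64, a φ x * (em φ (kv k) * a φ x * (em φ (kv k))⁻¹) = a φ (x ^^^ act k x) :=
    fun k hk x hx => by
      obtain ⟨ha, e⟩ := act_conj hk hx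
      rw [a, ← em_conj φ (kv_mem k) (av_mem hx), e]
      exact a_mul hx ha
  obtain ⟨x, hx, hxe⟩ : ∃ x < 64, a φ x = n⁻¹ * a φ a₀ * n := hnE _ (a_mem ha₀)
  have trans : ∀ k < 8, ∀ y < 64, ∀ z < 64, a φ z = n⁻¹ * a φ y * n →
      ∃ r < 8, z ^^^ act r z < 64 ∧ a φ (z ^^^ act r z) = n⁻¹ * a φ (y ^^^ act k y) * n := by
    intro k hk' y hy z hz e
    obtain ⟨r, hr, e'⟩ := hbr z hz _ (hninv _ (hk k hk'))
    refine ⟨r, hr, xor_lt hz (act_conj hr hz).1, ?_⟩
    rw [← e', ← hstep k hk' y hy, e]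
    group
  obtain ⟨r, hr, hb, e1⟩ := trans i hi a₀ ha₀ x hx hxe
  obtain ⟨r', hr', hb', e2⟩ := trans j hj _ (xor_lt ha₀ (act_conj hi ha₀).1) _ hb e1
  obtain ⟨r'', hr'', hb'', e3⟩ := trans l hl _
    (xor_lt (xor_lt ha₀ (act_conj hi ha₀).1) (act_conj hj (xor_lt ha₀ (act_conj hi ha₀).1)).1) _ hb' e2
  rw [h', ← hnα, show n⁻¹ * (n * em φ alp * n⁻¹) * n = em φ alp by group, ← a_alp] at e3
  have e4 := M.a_inj hb'' (by norm_num) e3
  have h5 := List.all_eq_true.1 (List.all_eq_true.1 (List.all_eq_true.1 (List.all_eq_true.1 triple_table x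
    (List.mem_range.2 hx)) r (List.mem_range.2 hr)) r' (List.mem_range.2 hr')) r'' (List.mem_range.2 hr'')
  simp only [Bool.or_eq_true, beq_iff_eq] at h5
  omega

/-- the conjugates of the central involution in the abelian subgroup are an orbit of odd size -/
theorem odd_count (M : Std φ) :
    Odd {x : ℕ | x < 64 ∧ IsConj (em φ alp) (a φ x)}.ncard := by
  haveI := Fact.mk Nat.prime_two
  obtain ⟨P, hP⟩ := M.syl
  set N := Subgroup.normalizer ((E64 φ : Subgroup G) : Set G) with hN
  have memN : ∀ {n : G}, n ∈ N ↔ ∀ p ∈ E64 φ, n * p * n⁻¹ ∈ E64 φ := by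
    intro n
    refine ⟨fun h p hp => (Subgroup.mem_normalizer_iff.1 h p).1 hp, fun h => Subgroup.mem_normalizer_iff.2 fun p => ⟨h p, fun hp => ?_⟩⟩
    obtain ⟨σ, hσ, -, -, -, hsurj⟩ := M.exists_map h
    obtain ⟨y, hy, e⟩ := hp
    obtain ⟨x, hx, rfl⟩ := hsurj y hy
    rw [← (hσ x hx).2] at e
    simp only [mul_left_inj, mul_right_inj] at e
    exact e ▸ a_mem hx
  let Orb : Set G := {g | ∃ n ∈ N, n * em φ alp * n⁻¹ = g}
  have himg : Orb = a φ '' {x : ℕ | x < 64 ∧ IsConj (em φ alp) (a φ x)} := by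
    ext g
    constructor
    · rintro ⟨n, hn, rfl⟩
      obtain ⟨y, hy, e⟩ := memN.1 hn _ (a_alp (φ := φ) ▸ a_mem (φ := φ) (x := 56) (by norm_num))
      exact ⟨y, ⟨hy, isConj_iff.2 ⟨n, e.symm⟩⟩, e⟩
    · rintro ⟨x, ⟨hx, hc⟩, rfl⟩
      obtain ⟨k, hk⟩ := isConj_iff.1 hc
      rw [← a_alp] at hk
      obtain ⟨n, -, h1, h2⟩ := M.fusion (K := ⊤) le_top (by norm_num) hx (Subgroup.mem_top k) hk
      exact ⟨n, memN.2 h1, by rw [← h2, a_alp]⟩
  rw [← Set.InjOn.ncard_image (f := a φ) (fun x hx y hy e => M.a_inj hx.1 hy.1 e), ← himg]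
  let st : Subgroup N := (Subgroup.centralizer ({em φ alp} : Set G)).subgroupOf N
  have hcard : Orb.ncard = st.index := by
    rw [Subgroup.index, ← Nat.card_coe_set_eq]
    refine (Nat.card_congr (Equiv.ofBijective (fun q : N ⧸ st => (⟨Quotient.liftOn' q (fun n : N => (n : G) * em φ alp * (n : G)⁻¹)
      (fun p q hpq => ?_), ?_⟩ : Orb)) ⟨?_, ?_⟩)).symm
    · have h : (p : G)⁻¹ * q ∈ Subgroup.centralizer ({em φ alp} : Set G) :=
        Subgroup.mem_subgroupOf.1 ((QuotientGroup.leftRel_apply (s := st)).1 hpq)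
      rw [Subgroup.mem_centralizer_singleton_iff] at h
      calc (p : G) * em φ alp * (p : G)⁻¹ = (p : G) * (em φ alp * ((p : G)⁻¹ * q)) * (q : G)⁻¹ := by group
        _ = _ := by rw [← h]; group
    · induction q using QuotientGroup.induction_on with
      | H n => exact ⟨n, n.2, rfl⟩
    · intro p q
      induction p using QuotientGroup.induction_on with
      | H n =>
        induction q using QuotientGroup.induction_on with
        | H k =>
          intro h
          have h' : (n : G) * em φ alp * (n : G)⁻¹ = (k : G) * em φ alp * (k : G)⁻¹ := congrArg Subtype.val h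
          refine QuotientGroup.eq.2 (Subgroup.mem_centralizer_singleton_iff.2 ?_)
          show (n : G)⁻¹ * k * em φ alp = em φ alp * ((n : G)⁻¹ * k)
          calc (n : G)⁻¹ * k * em φ alp = (n : G)⁻¹ * ((k : G) * em φ alp * (k : G)⁻¹) * k := by group
            _ = _ := by rw [← h']; group
    · rintro ⟨_, n, hn, rfl⟩
      exact ⟨QuotientGroup.mk ⟨n, hn⟩, rfl⟩
  have hPN : (P : Subgroup G) ≤ N := fun p hp => memN.2 fun x hx => by
    refine M.weakly _ p P.isPGroup' ?_ (fun y hy => ?_) x hx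
    · rintro _ ⟨z, hz, rfl⟩
      exact (hP _).2 ⟨av z, ⟨z, hz, 0, by norm_num, by rw [kv_zero, mul_one]⟩, rfl⟩
    · obtain ⟨z, hz, rfl⟩ := hy
      exact mul_mem (mul_mem hp ((hP _).2 ⟨av z, ⟨z, hz, 0, by norm_num, by rw [kv_zero, mul_one]⟩, rfl⟩)) (inv_mem hp)
  have hPC : (P : Subgroup G) ≤ Subgroup.centralizer ({em φ alp} : Set G) := by
    have := M.sylow_cent hP (x := 56) (by norm_num) fun k hk => by
      have := List.all_eq_true.1 fixed_alp k (List.mem_range.2 hk)
      simp only [Bool.and_eq_true, beq_iff_eq] at this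
      exact this.1
    rwa [a_alp] at this
  rw [hcard, Nat.odd_iff]
  have h2 : ¬ 2 ∣ (P.subtype hPN : Subgroup N).index := (P.subtype hPN).not_dvd_index
  have hle : (P.subtype hPN : Subgroup N) ≤ st := fun p hp => hPC hp
  have : st.index ∣ (P.subtype hPN : Subgroup N).index := Subgroup.index_dvd_of_le hle
  by_contra h
  exact h2 ((show 2 ∣ st.index by omega).trans this)

/-- the five possibilities -/
theorem exists_cls (M : Std φ) : ∃ m ∈ [0, 1, 4, 113, 116], Cls φ m := by
  classical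
  set P : ℕ → Prop := fun x => IsConj (em φ alp) (a φ x) with hP
  have hr : ∀ x < 64, x ≠ 0 → (P x ↔ P (orbR x)) := fun x hx h0 =>
    ⟨fun h => h.trans (isConj_orbR hx h0).1.symm, fun h => h.trans (isConj_orbR hx h0).1⟩
  have h0 : ¬ P 0 := fun h => by
    simp only [hP, a_zero, isConj_one_left] at h
    exact CfsgLib.Invol.ne_one_of_orderOf_two M.alp_two h
  have h56 : P 56 := by simp only [hP, a_alp]; exact IsConj.refl _
  let bits := (List.range 7).map fun i => decide (P (reps.getD i 0))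
  have hm : ∀ b : List Bool, b.length = 7 → ∃ m < 128, ∀ i < 7, m.testBit i = b.getD i false := by
    intro b hb
    match b, hb with
    | [b0, b1, b2, b3, b4, b5, b6], _ =>
      revert b0 b1 b2 b3 b4 b5 b6
      decide +kernel
  obtain ⟨m, hm, hbit⟩ := hm bits (by simp [bits])
  have hbit' : ∀ i < 7, (m.testBit i = true ↔ P (reps.getD i 0)) := fun i hi => by
    rw [hbit i hi]
    simp [bits, List.getD_eq_getElem?_getD, List.getElem?_range, hi]
  have hiff : ∀ x < 64, (oset m).testBit x = true ↔ (P x ∧ orbR x ≠ 8 ∧ orbR x ≠ 24) := by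
    intro x hx
    have e := List.all_eq_true.1 (List.all_eq_true.1 oset_table m (List.mem_range.2 hm)) x (List.mem_range.2 hx)
    rw [beq_iff_eq] at e
    rw [e, Bool.or_eq_true, beq_iff_eq, List.any_eq_true]
    constructor
    · rintro (rfl | ⟨i, hi, h⟩)
      · exact ⟨h56, by decide +kernel, by decide +kernel⟩
      · rw [List.mem_range] at hi
        rw [Bool.and_eq_true, beq_iff_eq] at h
        obtain ⟨h1, h2⟩ := h
        have hne : x ≠ 0 := by
          rintro rfl
          have : ∀ i < 7, orbR 0 ≠ reps.getD i 0 := by decide +kernel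
          exact this i hi h2
        refine ⟨(hr x hx hne).2 (h2 ▸ (hbit' i hi).1 h1), ?_, ?_⟩ <;> rw [h2] <;> revert hi <;>
          revert i <;> intro i _ _ hi <;> interval_cases i <;> decide
    · rintro ⟨h, h8, h24⟩
      by_cases hx56 : x = 56
      · exact .inl hx56
      have hne : x ≠ 0 := fun e => h0 (e ▸ h)
      have hc := List.all_eq_true.1 orbR_cases x (List.mem_range.2 hx)
      simp only [Bool.or_eq_true, beq_iff_eq, hne, hx56, h8, h24, false_or, List.contains_eq_mem, decide_eq_true_eq] at hc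
      obtain ⟨i, hi, e'⟩ := List.getElem_of_mem hc
      have hgd : reps.getD i 0 = orbR x := by rw [List.getD_eq_getElem _ _ hi]; exact e'
      have hi7 : i < 7 := hi
      exact .inr ⟨i, List.mem_range.2 hi7, by
        rw [Bool.and_eq_true, beq_iff_eq]
        exact ⟨(hbit' i hi7).2 (hgd ▸ (hr x hx hne).1 h), hgd.symm⟩⟩
  have h24 : ∀ x < 64, orbR x = 24 → ¬ P x := fun x hx e h => by
    have hne : x ≠ 0 := fun e' => h0 (e' ▸ h)
    exact M.not_conj_24 (e ▸ (hr x hx hne).1 h)
  have h8 : ∀ x < 64, orbR x = 8 → ¬ P x := by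
    intro x hx e h
    have hne : x ≠ 0 := fun e' => h0 (e' ▸ h)
    have hP8 : P 8 := e ▸ (hr x hx hne).1 h
    have hall : ∀ y < 64, (P y ↔ ((oset m).testBit y = true ∨ y ∈ [8, 16, 32])) := by
      intro y hy
      constructor
      · intro hy'
        by_cases e8 : orbR y = 8
        · refine .inr ?_
          have := List.all_eq_true.1 orbR_three y (List.mem_range.2 hy)
          simp only [Bool.and_eq_true, Bool.or_eq_true, e8, beq_self_eq_true, Bool.not_true, Bool.false_eq_true,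
            false_or, List.contains_eq_mem, decide_eq_true_eq] at this
          exact this.1
        · exact .inl ((hiff y hy).2 ⟨hy', e8, fun e24 => h24 y hy e24 hy'⟩)
      · rintro (h' | h')
        · exact ((hiff y hy).1 h').1
        · have : ∀ y ∈ [8, 16, 32], y ≠ 0 ∧ orbR y = 8 := by decide +kernel
          exact (hr y hy (this y h').1).2 ((this y h').2 ▸ hP8)
    have hset : {x : ℕ | x < 64 ∧ IsConj (em φ alp) (a φ x)} =
        ↑((List.range 64).filter fun y => (oset m).testBit y || [8, 16, 32].contains y).toFinset := by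
      ext y
      simp only [Set.mem_setOf_eq, Finset.mem_coe, List.mem_toFinset, List.mem_filter, List.mem_range, Bool.or_eq_true,
        List.contains_eq_mem, decide_eq_true_eq]
      exact ⟨fun h => ⟨h.1, (hall y h.1).1 h.2⟩, fun h => ⟨h.1, (hall y h.1).2 h.2⟩⟩
    have hodd := M.odd_count
    rw [hset, Set.ncard_coe_finset, List.card_toFinset, List.Nodup.dedup (List.nodup_range.filter _)] at hodd
    have tab : ((List.range 128).all fun m =>
        ((List.range 64).filter fun y => (oset m).testBit y || [8, 16, 32].contains y).length % 2 == 0) = true := by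
      decide +kernel
    have := beq_iff_eq.1 (List.all_eq_true.1 tab m (List.mem_range.2 hm))
    rw [Nat.odd_iff] at hodd
    omega
  have hcls : Cls φ m := fun x hx =>
    ⟨fun h => (hiff x hx).2 ⟨h, fun e => h8 x hx e h, fun e => h24 x hx e h⟩, fun h => ((hiff x hx).1 h).1⟩
  refine ⟨m, ?_, hcls⟩
  by_contra hbad
  have hf := List.all_eq_true.1 filter_table m (List.mem_range.2 hm)
  rw [Bool.or_eq_true, List.contains_eq_mem, decide_eq_true_eq, or_iff_right hbad] at hf
  obtain ⟨y, hy, hy'⟩ := List.any_eq_true.1 hf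
  rw [List.mem_range] at hy
  rw [Bool.and_eq_true, Bool.or_eq_true, bne_iff_ne, bne_iff_ne] at hy'
  obtain ⟨g, hg⟩ := isConj_iff.1 ((hcls y hy).2 hy'.1)
  rw [← a_alp] at hg
  obtain ⟨n, -, hn, hn'⟩ := M.fusion (K := ⊤) le_top (by norm_num) hy (Subgroup.mem_top g) hg
  obtain ⟨σ, hσ, -, hlin, hinj, hsurj⟩ := M.exists_map hn
  have hσy : σ 56 = y := M.a_inj (hσ 56 (by norm_num)).1 hy ((hσ 56 (by norm_num)).2.symm.trans hn')
  have hO : ∀ z < 64, (oset m).testBit (σ z) = (oset m).testBit z := fun z hz => by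
    have key : IsConj (em φ alp) (a φ (σ z)) ↔ IsConj (em φ alp) (a φ z) := by
      have : IsConj (a φ z) (a φ (σ z)) := isConj_iff.2 ⟨n, (hσ z hz).2⟩
      exact ⟨fun h => h.trans this.symm, fun h => h.trans this⟩
    rw [hcls z hz, hcls _ (hσ z hz).1] at key
    exact Bool.eq_iff_iff.2 key
  have hperm : List.Perm ((List.range 64).map σ) (List.range 64) := by
    refine (List.perm_ext_iff_of_nodup ?_ List.nodup_range).2 fun z => ?_
    · exact List.Nodup.map_on (fun p hp q hq e => hinj p (List.mem_range.1 hp) q (List.mem_range.1 hq) e) List.nodup_range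
    · simp only [List.mem_map, List.mem_range]
      exact ⟨fun ⟨w, hw, e⟩ => e ▸ (hσ w hw).1, fun hz => hsurj z hz⟩
  have h2 : ∀ w < 64, cnt2 (oset m) (σ w) = cnt2 (oset m) w := by
    intro w hw
    rw [cnt2, cnt2, ← List.countP_eq_length_filter, ← List.countP_eq_length_filter, ← hperm.countP_eq, List.countP_map]
    refine List.countP_congr fun z hz => ?_
    rw [List.mem_range] at hz
    simp only [Function.comp_apply]
    rw [← hlin w hw z hz, hO z hz, hO _ (xor_lt hw hz)]
  have h3 : cnt3 (oset m) y = cnt3 (oset m) 56 := by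
    rw [cnt3, cnt3, ← (hperm.map _).sum_eq, List.map_map]
    refine congrArg List.sum (List.map_congr_left fun z hz => ?_)
    rw [List.mem_range] at hz
    simp only [Function.comp_apply]
    rw [hO z hz, ← hσy, ← hlin 56 (by norm_num) z hz, h2 _ (xor_lt (by norm_num) hz)]
  rcases hy'.2 with h | h
  · exact h (by rw [← hσy]; exact h2 56 (by norm_num))
  · exact h h3

/-- the isolated case -/
theorem isolated (M : Std φ) (hc : Cls φ 0) :
    Cfsg.oddCore G ⊔ Subgroup.centralizer ({em φ alp} : Set G) = ⊤ ∧ IsMulCommutative ↥(Cfsg.oddCore G) := by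
  haveI := Fact.mk Nat.prime_two
  obtain ⟨P, hP⟩ := M.syl
  set α := em φ alp with hα
  have hα2 := M.alp_two
  have hαP : α ∈ P := (hP _).2 ⟨alp, ⟨56, by norm_num, 0, by norm_num, by rw [kv_zero, mul_one, av_alp]⟩, rfl⟩
  have hiso : ∀ g : G, g * α * g⁻¹ ∈ P → g * α * g⁻¹ = α := by
    intro g hg
    obtain ⟨p, hp, e⟩ := (hP _).1 hg
    have hp2 : p * p = 1 := M.em_inj (mul_mem (S12_le hp) (S12_le hp)) (one_mem _) (by
      rw [em_mul φ (S12_le hp) (S12_le hp), e, conj_sq (CfsgLib.Invol.mul_self_of_orderOf_two hα2), em_one])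
    obtain ⟨w, hw, x, hx, ew⟩ := invol_to_A hp hp2
    have hcx : IsConj α (a φ x) := isConj_iff.2 ⟨em φ w * g, by
      rw [a, ← ew, em_conj φ hw (S12_le hp), e]; group⟩
    have hx56 : x = 56 := by
      have h := (hc x hx).1 hcx
      have : ∀ x < 64, (oset 0).testBit x = true → x = 56 := by decide +kernel
      exact this x hx h
    rw [← e, hα]
    congr 1
    rw [hx56, av_alp, mul_inv_eq_iff_eq_mul, ← (mem_X12.1 hw).2] at ew
    exact mul_left_cancel ew
  obtain ⟨N, hN, hodd, hcomm⟩ := Cfsg.Agent.S0215.result P α hα2 hαP hiso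
  have hNle : N ≤ Cfsg.oddCore G := CfsgLib.M22Recog.le_core hN hodd
  have hsq := CfsgLib.Invol.mul_self_of_orderOf_two hα2
  have hinv : α⁻¹ = α := inv_eq_of_mul_eq_one_right hsq
  constructor
  · rw [eq_top_iff]
    intro g _
    have hmem : α * (g * α * g⁻¹) ∈ N := by simpa [hinv, mul_assoc] using hcomm g
    have ho : Odd (orderOf (α * (g * α * g⁻¹))) := by
      refine hodd.of_dvd_nat ?_
      rw [← Subgroup.orderOf_mk _ hmem]
      exact orderOf_dvd_natCard _
    obtain ⟨k, hk⟩ := CfsgLib.Invol.exists_zpow_conj_of_odd hα2 (CfsgLib.Invol.conj_orderOf_two hα2 g) ho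
    set c := (α * (g * α * g⁻¹)) ^ k
    have h1 : c⁻¹ * g ∈ Subgroup.centralizer ({α} : Set G) := by
      rw [Subgroup.mem_centralizer_singleton_iff]
      calc c⁻¹ * g * α = c⁻¹ * (g * α * g⁻¹) * g := by group
        _ = c⁻¹ * (c * α * c⁻¹) * g := by rw [hk]
        _ = _ := by group
    have h2 := Subgroup.mul_mem_sup (hNle (zpow_mem hmem k) : c ∈ Cfsg.oddCore G) h1
    rwa [mul_inv_cancel_left] at h2
  · haveI : (Cfsg.oddCore G).Normal := CfsgLib.SelfCent.pPrimeCore_normal' 2
    have hO : Odd (Nat.card (Cfsg.oddCore G)) := Nat.coprime_two_right.1 (CfsgLib.SelfCent.pPrimeCore_coprime 2)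
    have hrodd : ∀ r ∈ Cfsg.oddCore G, Odd (orderOf r) := fun r hr => hO.of_dvd_nat (by
      rw [← Subgroup.orderOf_mk _ hr]; exact orderOf_dvd_natCard _)
    have hfix : ∀ r ∈ Cfsg.oddCore G, α * r = r * α → r = 1 := by
      intro r hr hcr
      obtain ⟨t, ht, rfl⟩ := M.cent r hcr.symm
      -- odd normal elements commute with the flips
      have hflip : ∀ f ∈ [av 8, av 16, av 32, eA, eC], t * f = f * t := by
        intro f hf
        obtain ⟨hfX, hpres⟩ := flips_ok f hf
        set d := t * f * t⁻¹ * f⁻¹ with hd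
        have hdX : d ∈ X12 := mul_mem (mul_mem (mul_mem ht hfX) (inv_mem ht)) (inv_mem hfX)
        have hdO : em φ d ∈ Cfsg.oddCore G := by
          rw [hd, show t * f * t⁻¹ * f⁻¹ = t * (f * t⁻¹ * f⁻¹) by group,
            em_mul φ ht (mul_mem (mul_mem hfX (inv_mem ht)) (inv_mem hfX)), em_conj φ hfX (inv_mem ht), em_inv φ ht]
          exact mul_mem hr ((inferInstance : (Cfsg.oddCore G).Normal).conj_mem _ (inv_mem hr) _)
        have hd2 : d * d = 1 := comm_flip_sq ht hfX hpres
        have h1 : em φ d = 1 := CfsgLib.Invol.eq_one_of_odd_of_sq (hrodd _ hdO) (by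
          rw [← em_mul φ hdX hdX, hd2, em_one])
        have h2 : d = 1 := M.em_inj hdX (one_mem _) (h1.trans (em_one φ).symm)
        rwa [hd, mul_inv_eq_one, mul_inv_eq_iff_eq_mul] at h2
      have ht2 : t * t = 1 := Equiv.ext fun i => by
        have hta : t (alp i) = alp (t i) := DFunLike.congr_fun (mem_X12.1 ht).2 i
        have halp : alp (alp i) = i := (by decide +kernel : ∀ j, alp (alp j) = j) i
        rw [Perm.mul_apply, Perm.one_apply]
        rcases sep_pairs i (t i) (fun f hf => by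
          have h := DFunLike.congr_fun (hflip f hf) i
          simp only [Perm.mul_apply] at h
          exact ⟨fun e => by rw [← h, e], fun e => t.injective (h.trans e)⟩) with e | e
        · rw [e, e]
        · rw [e, hta, e, halp]
      exact CfsgLib.Invol.eq_one_of_odd_of_sq (hrodd _ hr) (by rw [← em_mul φ ht ht, ht2, em_one])
    have hC : ∀ r ∈ Cfsg.oddCore G, α * r * α ∈ Cfsg.oddCore G := fun r hr => by
      have := (inferInstance : (Cfsg.oddCore G).Normal).conj_mem r hr α
      rwa [hinv] at this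
    have hab := CfsgLib.OneToFive.comm_of_inverted hsq (CfsgLib.OneToFive.inverts_of_fpf hsq hC hfix)
    exact ⟨⟨fun p q => Subtype.ext (hab p p.2 q q.2)⟩⟩

end Std

/-- the action on the six transpositions -/
theorem half_eq {g : P12} (hg : g ∈ X12) (j : Fin 12) :
    (g j).1 / 2 = (g ⟨2 * (j.1 / 2), by omega⟩).1 / 2 := by
  have hcases : ∀ j : Fin 12, j = ⟨2 * (j.1 / 2), by omega⟩ ∨ j = alp ⟨2 * (j.1 / 2), by omega⟩ := by decide +kernel
  have hhalf : ∀ k : Fin 12, (alp k).1 / 2 = k.1 / 2 := by decide +kernel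
  rcases hcases j with e | e
  · rw [← e]
  · conv_lhs => rw [e, show g (alp _) = alp (g _) from DFunLike.congr_fun (mem_X12.1 hg).2 _, hhalf]

/-- the permutation of the six transpositions -/
def blk : X12 →* Perm (Fin 6) :=
  MonoidHom.mk'
    (fun g =>
      { toFun := fun i => ⟨(g.1 ⟨2 * i.1, by omega⟩).1 / 2, by omega⟩
        invFun := fun i => ⟨((g.1)⁻¹ ⟨2 * i.1, by omega⟩).1 / 2, by omega⟩
        left_inv := fun i => by
          apply Fin.ext
          have h := half_eq (inv_mem g.2) (g.1 ⟨2 * i.1, by omega⟩)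
          simp only [show (g.1)⁻¹ (g.1 ⟨2 * i.1, by omega⟩) = ⟨2 * i.1, by omega⟩ from g.1.symm_apply_apply _] at h
          simp only at h ⊢
          omega
        right_inv := fun i => by
          apply Fin.ext
          have h := half_eq g.2 ((g.1)⁻¹ ⟨2 * i.1, by omega⟩)
          simp only [show g.1 ((g.1)⁻¹ ⟨2 * i.1, by omega⟩) = ⟨2 * i.1, by omega⟩ from g.1.apply_symm_apply _] at h
          simp only at h ⊢
          omega })
    fun g h => Equiv.ext fun i => Fin.ext (half_eq g.2 _)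

/-- the outer automorphism -/
def tau : X12 →* X12 :=
  MonoidHom.mk' (fun g => if Perm.sign (blk g) = 1 then g else g * ⟨alp, alp_mem⟩) fun g h => by
    have hc : ∀ k : X12, k * ⟨alp, alp_mem⟩ = ⟨alp, alp_mem⟩ * k := fun k => Subtype.ext (mem_X12.1 k.2).2
    have h2 : (⟨alp, alp_mem⟩ : X12) * ⟨alp, alp_mem⟩ = 1 := Subtype.ext (same_iff.1 (by decide +kernel))
    simp only [map_mul]
    rcases Int.units_eq_one_or (Perm.sign (blk g)) with e | e <;>
      rcases Int.units_eq_one_or (Perm.sign (blk h)) with e' | e' <;> rw [e, e']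
    · simp
    · simp [mul_assoc]
    · simp only [mul_one, show ((-1 : ℤˣ) = 1) = False by decide, if_false, if_true]
      rw [mul_assoc, mul_assoc, hc h]
    · simp only [neg_mul_neg, mul_one, show ((-1 : ℤˣ) = 1) = False by decide, if_false, if_true]
      rw [mul_assoc g, ← mul_assoc (⟨alp, alp_mem⟩ : X12), ← hc h, mul_assoc h, h2, mul_one]

theorem tau_def (g : X12) : tau g = if Perm.sign (blk g) = 1 then g else g * ⟨alp, alp_mem⟩ := rfl

theorem tau_alp : tau ⟨alp, alp_mem⟩ = ⟨alp, alp_mem⟩ := by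
  rw [tau_def, if_pos]
  decide +kernel

theorem tau_tau (g : X12) : tau (tau g) = g := by
  have h2 : (⟨alp, alp_mem⟩ : X12) * ⟨alp, alp_mem⟩ = 1 := Subtype.ext (same_iff.1 (by decide +kernel))
  by_cases h : Perm.sign (blk g) = 1
  · rw [tau_def g, if_pos h, tau_def, if_pos h]
  · rw [tau_def g, if_neg h, map_mul, tau_alp, tau_def, if_neg h, mul_assoc, h2, mul_one]

/-- the action of the outer automorphism in coordinates -/
def tw (x : ℕ) : ℕ := bif (x % 2 + x / 2 % 2 + x / 4 % 2) % 2 == 0 then x else x ^^^ 56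

theorem tau_table : ∀ x : Fin 64, ∀ h : av x.1 ∈ X12, same (tau ⟨av x.1, h⟩).1 (av (tw x.1)) = true := by
  intro x
  have key : (List.range 64).all (fun x => if h : x < 64 then same (tau ⟨av x, av_mem h⟩).1 (av (tw x)) else true) = true := by
    decide +kernel
  intro h
  have := List.all_eq_true.1 key x.1 (List.mem_range.2 x.2)
  rwa [dif_pos x.2] at this

theorem twist_tables : ((List.range 64).all fun x => Nat.blt (tw x) 64 &&
    (oset 4).testBit (tw x) == (oset 1).testBit x && (oset 113).testBit (tw x) == (oset 116).testBit x) = true := by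
  decide +kernel

/-- the setting composed with the outer automorphism -/
theorem Std.twist (M : Std φ) : Std (φ.comp tau) ∧ em (φ.comp tau) alp = em φ alp ∧
    (Cls φ 4 → Cls (φ.comp tau) 1) ∧ (Cls φ 113 → Cls (φ.comp tau) 116) := by
  have hα : em (φ.comp tau) alp = em φ alp := by
    rw [em_apply _ alp_mem, MonoidHom.comp_apply, tau_alp, em_apply φ alp_mem]
  have heq : ∀ {g : P12} (hg : g ∈ X12), em (φ.comp tau) g = em φ (tau ⟨g, hg⟩).1 := fun {g} hg => by
    rw [em_apply _ hg, MonoidHom.comp_apply, em_apply φ (tau ⟨g, hg⟩).2]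
  have hS : ∀ p (hp : p ∈ S12), (tau ⟨p, S12_le hp⟩).1 ∈ S12 := by
    intro p hp
    show (if Perm.sign (blk ⟨p, S12_le hp⟩) = 1 then (⟨p, S12_le hp⟩ : X12) else _).1 ∈ S12
    split_ifs
    · exact hp
    · exact mul_mem hp ⟨56, by norm_num, 0, by norm_num, by rw [kv_zero, mul_one, av_alp]⟩
  have hcls : ∀ x < 64, a (φ.comp tau) x = a φ (tw x) := fun x hx => by
    rw [a, heq (av_mem hx), same_iff.1 (tau_table ⟨x, hx⟩ (av_mem hx)), a]
  have htab : ∀ x < 64, tw x < 64 ∧ (oset 4).testBit (tw x) = (oset 1).testBit x ∧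
      (oset 113).testBit (tw x) = (oset 116).testBit x := fun x hx => by
    have := List.all_eq_true.1 twist_tables x (List.mem_range.2 hx)
    simp only [Bool.and_eq_true, Nat.blt_eq, beq_iff_eq] at this
    exact ⟨this.1.1, this.1.2, this.2⟩
  refine ⟨⟨fun p q e => ?_, fun g hg => ?_, ?_⟩, hα, fun h x hx => ?_, fun h x hx => ?_⟩
  · rw [← tau_tau p, ← tau_tau q, M.inj e]
  · obtain ⟨x, hx, e⟩ := M.cent g (hα ▸ hg)
    refine ⟨(tau ⟨x, hx⟩).1, (tau ⟨x, hx⟩).2, ?_⟩
    rw [heq (tau ⟨x, hx⟩).2, Subtype.coe_eta, tau_tau, e]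
  · obtain ⟨P, hP⟩ := M.syl
    refine ⟨P, fun g => (hP g).trans ⟨?_, ?_⟩⟩
    · rintro ⟨p, hp, rfl⟩
      refine ⟨_, hS p hp, ?_⟩
      rw [heq (S12_le (hS p hp)), Subtype.coe_eta, tau_tau]
    · rintro ⟨p, hp, rfl⟩
      exact ⟨_, hS p hp, (heq (S12_le hp)).symm⟩
  · rw [hα, hcls x hx, h _ (htab x hx).1, (htab x hx).2.1]
  · rw [hα, hcls x hx, h _ (htab x hx).1, (htab x hx).2.2]

end CfsgLib.TwelveCent
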