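import Cfsg.Agent.Lib.TwelveCent.Basic
import Cfsg.Agent.Lib.TwelveCent.Data

/-!
A group with an involution centralised exactly by a copy of the centraliser in the alternating group of
degree twelve: the abelian subgroup of order 64 is weakly closed and controls fusion of involutions.
-/

set_option autoImplicit false
set_option linter.style.haveILetI false
set_option linter.unusedSectionVars false

namespace CfsgLib.TwelveCent

/-- a regular element commuting with the abelian subgroup lies in it -/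
theorem eq_av_of_comm {g : P12} (h : ∀ x < 64, g * av x = av x * g) : ∃ x < 64, av x = g := by
  have happ : ∀ x, x < 64 → ∀ i, g (avF x i) = avF x (g i) := fun x hx i => DFunLike.congr_fun (h x hx) i
  have hquad : ∀ q : Fin 3, ∀ i : Fin 12, avF (8 * 2 ^ q.1) i ≠ i → i.1 / 4 = q.1 := by decide +kernel
  have hmove : ∀ q : Fin 3, avF (8 * 2 ^ q.1) ⟨4 * q.1, by omega⟩ ≠ ⟨4 * q.1, by omega⟩ := by decide +kernel
  have hlt : ∀ q : Fin 3, 8 * 2 ^ q.1 < 64 := by decide
  have hbase : ∀ q : Fin 3, (g ⟨4 * q.1, by omega⟩).1 / 4 = q.1 := fun q =>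
    hquad q _ fun e => hmove q (g.injective ((happ _ (hlt q) _).trans e))
  have hgen : ∀ i : Fin 12, ∃ m : Fin 64, avF m.1 ⟨4 * (i.1 / 4), by omega⟩ = i := by decide +kernel
  have h0 := hbase 0
  have h1 := hbase 1
  have h2 := hbase 2
  set a := (g (⟨4 * (0 : Fin 3).1, by omega⟩ : Fin 12)).1 with ha
  set b := (g (⟨4 * (1 : Fin 3).1, by omega⟩ : Fin 12)).1 with hb
  set c := (g (⟨4 * (2 : Fin 3).1, by omega⟩ : Fin 12)).1 with hc
  change a / 4 = 0 at h0
  change b / 4 = 1 at h1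
  change c / 4 = 2 at h2
  have hA : a = (g 0).1 := rfl
  have hB : b = (g 4).1 := rfl
  have hC : c = (g 8).1 := rfl
  have hd : dA g = (a / 2 % 2) + 2 * ((b - 4) / 2 % 2) + 4 * ((c - 8) / 2 % 2) + 8 * (a % 2) +
      16 * ((b - 4) % 2) + 32 * ((c - 8) % 2) := rfl
  refine ⟨dA g, by omega, Equiv.ext fun i => ?_⟩
  obtain ⟨m, hm⟩ := hgen i
  show avF (dA g) i = g i
  conv_rhs => rw [← hm, happ m.1 m.2]
  have key : ∀ (i : Fin 12) (m : Fin 64) (a b c : Fin 4),
      avF m.1 ⟨4 * (i.1 / 4), by omega⟩ = i →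
      avF ((a.1 / 2 % 2) + 2 * (b.1 / 2 % 2) + 4 * (c.1 / 2 % 2) + 8 * (a.1 % 2) + 16 * (b.1 % 2) + 32 * (c.1 % 2)) i =
        avF m.1 ([⟨a.1, by omega⟩, ⟨4 + b.1, by omega⟩, ⟨8 + c.1, by omega⟩].getD (i.1 / 4) (0 : Fin 12)) := by
    intro i m a b c hm
    have e : i.1 = 4 * (i.1 / 4) ^^^ (amask m.1 (i.1 / 4)).1 := by
      conv_lhs => rw [← hm]
      show 4 * (i.1 / 4) ^^^ (amask m.1 (4 * (i.1 / 4) / 4)).1 = _
      rw [Nat.mul_div_cancel_left _ (by norm_num : 0 < 4)]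
    have tab : ∀ (i : Fin 12) (d : Fin 4) (a b c : Fin 4), i.1 = 4 * (i.1 / 4) ^^^ d.1 →
        avF ((a.1 / 2 % 2) + 2 * (b.1 / 2 % 2) + 4 * (c.1 / 2 % 2) + 8 * (a.1 % 2) + 16 * (b.1 % 2) + 32 * (c.1 % 2)) i =
          (⟨([a.1, 4 + b.1, 8 + c.1].getD (i.1 / 4) 0 ^^^ d.1) % 12, Nat.mod_lt _ (by norm_num)⟩ : Fin 12) := by
      decide +kernel
    rw [tab i _ a b c e]
    obtain h | h | h : i.1 / 4 = 0 ∨ i.1 / 4 = 1 ∨ i.1 / 4 = 2 := by have := i.2; omega
    · rw [h]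
      have hx : a.1 / 4 = 0 := by have := a.2; omega
      apply Fin.ext
      simp only [avF, List.getD_cons_zero, hx]
      exact Nat.mod_eq_of_lt (lt_of_lt_of_le ((Nat.xor_lt_two_pow (n := 2)) a.2 (amask m.1 0).2) (by norm_num))
    · rw [h]
      have hx : (4 + b.1) / 4 = 1 := by have := b.2; omega
      apply Fin.ext
      simp only [avF, List.getD_cons_succ, List.getD_cons_zero, hx]
      exact Nat.mod_eq_of_lt (xor_quad ⟨4 + b.1, by omega⟩ (amask m.1 1)).1
    · rw [h]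
      have hx : (8 + c.1) / 4 = 2 := by have := c.2; omega
      apply Fin.ext
      simp only [avF, List.getD_cons_succ, List.getD_cons_zero, hx]
      exact Nat.mod_eq_of_lt (xor_quad ⟨8 + c.1, by omega⟩ (amask m.1 2)).1
  have hk := key i m ⟨a % 4, by omega⟩ ⟨b % 4, by omega⟩ ⟨c % 4, by omega⟩ hm
  simp only at hk
  have e1 : a % 4 = a := by omega
  have e2 : b % 4 = b - 4 := by omega
  have e3 : c % 4 = c - 8 := by omega
  simp only [e1, e2, e3] at hk
  rw [hd, hk]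
  congr 1
  obtain h | h | h : i.1 / 4 = 0 ∨ i.1 / 4 = 1 ∨ i.1 / 4 = 2 := by have := i.2; omega
  · simp only [h]; exact Fin.ext hA
  · simp only [h]; exact Fin.ext (show 4 + (b - 4) = (g 4).1 by omega)
  · simp only [h]; exact Fin.ext (show 8 + (c - 8) = (g 8).1 by omega)

/-- an elementary abelian subgroup of order 64 of the Sylow subgroup is the given one -/
theorem unique_sixty_four (B : Set P12) (hB : B ⊆ S12) (hcard : B.ncard = 64)
    (hmul : ∀ p ∈ B, ∀ q ∈ B, p * q ∈ B) (hcm : ∀ p ∈ B, ∀ q ∈ B, p * q = q * p) : B ⊆ A12s := by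
  classical
  let T : Finset ℕ := (Finset.range 8).filter fun k => ∃ x < 64, av x * kv k ∈ B
  have hT : ∀ p ∈ B, ∃ x < 64, ∃ k ∈ T, p = av x * kv k := fun p hp => by
    obtain ⟨x, hx, k, hk, rfl⟩ := hB hp
    exact ⟨x, hx, k, Finset.mem_filter.2 ⟨Finset.mem_range.2 hk, x, hx, hp⟩, rfl⟩
  let F : Finset ℕ := (Finset.range 64).filter fun x => av x ∈ B
  have hfix : ∀ x ∈ F, ∀ k ∈ T, act k x = x := by
    intro x hx k hk
    obtain ⟨hx, hxB⟩ := Finset.mem_filter.1 hx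
    obtain ⟨hk, y, hy, hyB⟩ := Finset.mem_filter.1 hk
    rw [Finset.mem_range] at hx hk
    obtain ⟨ha, e⟩ := act_conj hk hx
    have h := hcm _ hyB _ hxB
    refine av_inj ha hx ?_
    rw [← e]
    have h' : av y * (kv k * av x) = av y * (av x * kv k) := by
      rw [← mul_assoc, ← mul_assoc, h, ← mul_assoc, av_comm hx hy]
    rw [mul_inv_eq_iff_eq_mul]
    exact mul_left_cancel h'
  have hne : B.Nonempty := Set.nonempty_of_ncard_ne_zero (by omega)
  have hrep : ∀ k ∈ T, ∃ x < 64, av x * kv k ∈ B := fun k hk => (Finset.mem_filter.1 hk).2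
  choose! rx hrx hrB using hrep
  have hle : B.ncard ≤ T.card * F.card := by
    rw [← Finset.card_product, ← Set.ncard_coe_finset]
    refine le_trans (Set.ncard_le_ncard (t := (fun p : ℕ × ℕ => av (p.2 ^^^ rx p.1) * kv p.1) '' ↑(T ×ˢ F)) ?_
      (Set.toFinite _)) (Set.ncard_image_le (Finset.finite_toSet _))
    intro p hp
    obtain ⟨x, hx, k, hk, rfl⟩ := hT p hp
    refine ⟨(k, x ^^^ rx k), Finset.mem_coe.2 (Finset.mem_product.2 ⟨hk, Finset.mem_filter.2
      ⟨Finset.mem_range.2 (xor_lt hx (hrx k hk)), ?_⟩⟩), ?_⟩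
    · have h : av x * kv k * (av (rx k) * kv k) ∈ B := hmul _ hp _ (hrB k hk)
      have hinv : ∀ q ∈ B, q⁻¹ ∈ B := fun q hq => by
        have hfin : IsOfFinOrder q := isOfFinOrder_of_finite q
        have hpow : ∀ n, q ^ (n + 1) ∈ B := fun n => by
          induction n with
          | zero => simpa using hq
          | succ n ih => rw [pow_succ]; exact hmul _ ih _ hq
        have h2 := orderOf_pos q
        rcases Nat.lt_or_ge (orderOf q) 2 with h1 | h1
        · have hq1 : q = 1 := orderOf_eq_one_iff.1 (by omega)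
          rwa [hq1, inv_one, ← hq1]
        · have e : q⁻¹ = q ^ (orderOf q - 2 + 1) := by
            rw [inv_eq_iff_mul_eq_one, ← pow_succ', show orderOf q - 2 + 1 + 1 = orderOf q by omega, pow_orderOf_eq_one]
          rw [e]; exact hpow _
      have h := hmul _ hp _ (hinv _ (hrB k hk))
      rwa [mul_inv_rev, inv_eq_of_mul_eq_one_left (av_sq (hrx k hk)), mul_assoc, mul_inv_cancel_left,
        av_mul hx (hrx k hk)] at h
    · show av (x ^^^ rx k ^^^ rx k) * kv k = _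
      rw [Nat.xor_assoc, Nat.xor_self, Nat.xor_zero]
  rw [hcard] at hle
  have hFsub : ∀ ks : List ℕ, (∀ k ∈ ks, k ∈ T) → F.card ≤ (fixed ks).length := fun ks hks => by
    refine le_trans (Finset.card_le_card (t := (fixed ks).toFinset) fun x hx => ?_) (List.toFinset_card_le _)
    rw [List.mem_toFinset, fixed, List.mem_filter, List.all_eq_true]
    exact ⟨List.mem_range.2 (Finset.mem_range.1 (Finset.mem_filter.1 hx).1), fun k hk => beq_iff_eq.2 (hfix x hx k (hks k hk))⟩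
  have hT8 : T.card ≤ 8 := (Finset.card_filter_le _ _).trans (by simp)
  have hT0 : ∀ k ∈ T, k = 0 := by
    intro k hk
    by_contra hk0
    have hk8 := Finset.mem_range.1 (Finset.mem_filter.1 hk).1
    have h1 : F.card ≤ 16 := (hFsub [k] (by simpa using hk)).trans (by
      have := List.all_eq_true.1 fixed_one k (List.mem_range.2 hk8)
      rwa [Bool.or_eq_true, beq_iff_eq, or_iff_right hk0, Nat.ble_eq] at this)
    by_cases h2 : ∃ l ∈ T, l ≠ 0 ∧ l ≠ k
    · obtain ⟨l, hl, hl0, hlk⟩ := h2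
      have h3 : F.card ≤ 8 := (hFsub [k, l] (by simp [hk, hl])).trans (by
        have := List.all_eq_true.1 (List.all_eq_true.1 fixed_two k (List.mem_range.2 hk8)) l
          (List.mem_range.2 (Finset.mem_range.1 (Finset.mem_filter.1 hl).1))
        simpa [hk0, hl0, Ne.symm hlk, Nat.ble_eq] using this)
      rcases Nat.lt_or_ge T.card 8 with h4 | h4
      · have := Nat.mul_le_mul (Nat.le_of_lt_succ (show T.card < 8 from h4)) h3
        omega
      · have hall : T = Finset.range 8 := Finset.eq_of_subset_of_card_le (Finset.filter_subset _ _) (by simpa using h4)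
        have h5 : F.card ≤ 4 := (hFsub (List.range 8) (fun j hj => by
          rw [hall, Finset.mem_range]; exact List.mem_range.1 hj)).trans fixed_all.le
        have := Nat.mul_le_mul hT8 h5
        omega
    · push Not at h2
      have h4 : T.card ≤ 2 := (Finset.card_le_card (t := {0, k}) fun l hl => by
        by_cases e : l = 0
        · simp [e]
        · simp [h2 l hl e]).trans Finset.card_le_two
      have := Nat.mul_le_mul h4 h1
      omega
  intro p hp
  obtain ⟨x, hx, k, hk, rfl⟩ := hT p hp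
  exact ⟨x, hx, by rw [hT0 k hk, kv_zero, mul_one]⟩

variable {G : Type*} [Group G]

/-- the map on all permutations -/
noncomputable def em (φ : X12 →* G) (g : P12) : G := by
  classical exact if h : g ∈ X12 then φ ⟨g, h⟩ else 1

theorem em_apply (φ : X12 →* G) {g : P12} (h : g ∈ X12) : em φ g = φ ⟨g, h⟩ := by
  rw [em, dif_pos h]

theorem em_mul (φ : X12 →* G) {g h : P12} (hg : g ∈ X12) (hh : h ∈ X12) : em φ (g * h) = em φ g * em φ h := by
  rw [em_apply φ hg, em_apply φ hh, em_apply φ (mul_mem hg hh), ← map_mul]; rfl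

theorem em_inv (φ : X12 →* G) {g : P12} (hg : g ∈ X12) : em φ g⁻¹ = (em φ g)⁻¹ := by
  rw [em_apply φ hg, em_apply φ (inv_mem hg), ← map_inv]; rfl

theorem em_one (φ : X12 →* G) : em φ 1 = 1 := by
  rw [em_apply φ (one_mem _)]; exact map_one φ

theorem em_conj (φ : X12 →* G) {g h : P12} (hg : g ∈ X12) (hh : h ∈ X12) :
    em φ (g * h * g⁻¹) = em φ g * em φ h * (em φ g)⁻¹ := by
  rw [em_mul φ (mul_mem hg hh) (inv_mem hg), em_mul φ hg hh, em_inv φ hg]

/-- The centraliser of the image of the involution is the image, and the Sylow 2-subgroups have order 512. -/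
structure Std (φ : X12 →* G) : Prop where
  inj : Function.Injective φ
  cent : ∀ g : G, g * em φ alp = em φ alp * g → ∃ x ∈ X12, em φ x = g
  syl : ∃ P : Sylow 2 G, ∀ g : G, g ∈ P ↔ ∃ x ∈ S12, em φ x = g

variable {φ : X12 →* G}

/-- the coordinates in the group -/
noncomputable def a (φ : X12 →* G) (x : ℕ) : G := em φ (av x)

theorem a_zero : a φ 0 = 1 := by rw [a, av_zero, em_one]

theorem a_mul {x y : ℕ} (hx : x < 64) (hy : y < 64) : a φ x * a φ y = a φ (x ^^^ y) := by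
  rw [a, a, a, ← em_mul φ (av_mem hx) (av_mem hy), av_mul hx hy]

theorem a_sq {x : ℕ} (hx : x < 64) : a φ x * a φ x = 1 := by rw [a_mul hx hx, Nat.xor_self, a_zero]

theorem a_comm {x y : ℕ} (hx : x < 64) (hy : y < 64) : a φ x * a φ y = a φ y * a φ x := by
  rw [a_mul hx hy, a_mul hy hx, Nat.xor_comm]

theorem a_alp : a φ 56 = em φ alp := by rw [a, av_alp]

/-- the subgroup -/
noncomputable def E64 (φ : X12 →* G) : Subgroup G where
  carrier := {g | ∃ x < 64, a φ x = g}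
  one_mem' := ⟨0, by norm_num, a_zero⟩
  mul_mem' := by
    rintro _ _ ⟨x, hx, rfl⟩ ⟨y, hy, rfl⟩
    exact ⟨_, xor_lt hx hy, (a_mul hx hy).symm⟩
  inv_mem' := by
    rintro _ ⟨x, hx, rfl⟩
    exact ⟨x, hx, (inv_eq_of_mul_eq_one_left (a_sq hx)).symm⟩

theorem mem_E64 {g : G} : g ∈ E64 φ ↔ ∃ x < 64, a φ x = g := Iff.rfl

theorem a_mem {x : ℕ} (hx : x < 64) : a φ x ∈ E64 φ := ⟨x, hx, rfl⟩

theorem E64_comm : ∀ p ∈ E64 φ, ∀ q ∈ E64 φ, p * q = q * p := by
  rintro _ ⟨x, hx, rfl⟩ _ ⟨y, hy, rfl⟩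
  exact a_comm hx hy

theorem E64_pgroup : IsPGroup 2 (E64 φ) := by
  rintro ⟨_, x, hx, rfl⟩
  exact ⟨1, Subtype.ext (by rw [pow_one, pow_two]; exact a_sq hx)⟩

namespace Std

theorem em_inj (M : Std φ) {g h : P12} (hg : g ∈ X12) (hh : h ∈ X12) (e : em φ g = em φ h) : g = h := by
  rw [em_apply φ hg, em_apply φ hh] at e
  exact congrArg Subtype.val (M.inj e)

theorem a_inj (M : Std φ) {x y : ℕ} (hx : x < 64) (hy : y < 64) (e : a φ x = a φ y) : x = y :=
  av_inj hx hy (M.em_inj (av_mem hx) (av_mem hy) e)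

theorem a_two (M : Std φ) {x : ℕ} (hx : x < 64) (h0 : x ≠ 0) : orderOf (a φ x) = 2 :=
  two_of (a_sq hx) fun e => h0 (M.a_inj hx (by norm_num) (e.trans a_zero.symm))

theorem alp_two (M : Std φ) : orderOf (em φ alp) = 2 := a_alp (φ := φ) ▸ M.a_two (by norm_num) (by norm_num)

/-- the centraliser of the abelian subgroup -/
theorem cent_E64 (M : Std φ) {g : G} (hg : ∀ x < 64, g * a φ x = a φ x * g) : g ∈ E64 φ := by
  obtain ⟨t, ht, rfl⟩ := M.cent g (a_alp (φ := φ) ▸ hg 56 (by norm_num))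
  obtain ⟨x, hx, e⟩ := eq_av_of_comm (g := t) fun x hx => M.em_inj (mul_mem ht (av_mem hx))
    (mul_mem (av_mem hx) ht) (by rw [em_mul φ ht (av_mem hx), em_mul φ (av_mem hx) ht]; exact hg x hx)
  exact ⟨x, hx, by rw [a, e]⟩

variable [Finite G]

/-- every 2-subgroup is conjugate into the image of the Sylow subgroup -/
theorem exists_into (M : Std φ) {Q : Subgroup G} (hQ : IsPGroup 2 Q) :
    ∃ h : G, ∀ q ∈ Q, ∃ x ∈ S12, em φ x = h * q * h⁻¹ := by
  haveI := Fact.mk Nat.prime_two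
  obtain ⟨P, hP⟩ := M.syl
  obtain ⟨R, hR⟩ := hQ.exists_le_sylow
  obtain ⟨k, hk⟩ := MulAction.exists_smul_eq G R P
  refine ⟨k, fun q hq => (hP _).1 ?_⟩
  rw [← hk]
  exact ⟨q, hR hq, rfl⟩

/-- two conjugates of the abelian subgroup in one 2-group are equal -/
theorem weakly (M : Std φ) (Q : Subgroup G) (g : G) (hQ : IsPGroup 2 Q) (hEQ : E64 φ ≤ Q)
    (hg : ∀ x ∈ E64 φ, g * x * g⁻¹ ∈ Q) : ∀ x ∈ E64 φ, g * x * g⁻¹ ∈ E64 φ := by
  classical
  obtain ⟨h, hh⟩ := M.exists_into hQ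
  have key : ∀ k : G, (∀ x ∈ E64 φ, k * x * k⁻¹ ∈ Q) → ∀ x ∈ E64 φ, h * (k * x * k⁻¹) * h⁻¹ ∈ E64 φ := by
    intro k hk
    let B : Set P12 := {p | p ∈ S12 ∧ ∃ x ∈ E64 φ, em φ p = h * (k * x * k⁻¹) * h⁻¹}
    have hsurj : ∀ x ∈ E64 φ, ∃ p ∈ B, em φ p = h * (k * x * k⁻¹) * h⁻¹ := fun x hx => by
      obtain ⟨p, hp, e⟩ := hh _ (hk x hx)
      exact ⟨p, ⟨hp, x, hx, e⟩, e⟩
    have hcard : B.ncard = 64 := by
      have he : ∀ x : Fin 64, ∃ p ∈ B, em φ p = h * (k * a φ x.1 * k⁻¹) * h⁻¹ := fun x => hsurj _ (a_mem x.2)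
      choose f hf hfe using he
      have e : B = Set.range f := by
        refine Set.Subset.antisymm (fun p hp => ?_) (Set.range_subset_iff.2 hf)
        obtain ⟨hpS, _, ⟨x, hx, rfl⟩, e⟩ := hp
        exact ⟨⟨x, hx⟩, M.em_inj (S12_le (hf _).1) (S12_le hpS) ((hfe _).trans e.symm)⟩
      have finj : Function.Injective f := fun x y e' => Fin.ext (M.a_inj x.2 y.2 (by
        have h' := (hfe x).symm.trans ((congrArg (em φ) e').trans (hfe y))
        simpa using h'))
      rw [e, ← Set.image_univ, Set.ncard_image_of_injective _ finj, Set.ncard_univ, Nat.card_eq_fintype_card,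
        Fintype.card_fin]
    have hB := unique_sixty_four B (fun p hp => hp.1) hcard ?_ ?_
    · intro x hx
      obtain ⟨p, hp, e⟩ := hsurj x hx
      obtain ⟨y, hy, rfl⟩ := hB hp
      exact ⟨y, hy, e⟩
    · rintro p ⟨hp, x, hx, e⟩ q ⟨hq, y, hy, e'⟩
      refine ⟨mul_mem hp hq, x * y, mul_mem hx hy, ?_⟩
      rw [em_mul φ (S12_le hp) (S12_le hq), e, e']; group
    · rintro p ⟨hp, x, hx, e⟩ q ⟨hq, y, hy, e'⟩
      refine M.em_inj (mul_mem (S12_le hp) (S12_le hq)) (mul_mem (S12_le hq) (S12_le hp)) ?_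
      rw [em_mul φ (S12_le hp) (S12_le hq), em_mul φ (S12_le hq) (S12_le hp), e, e']
      exact conj_comm (conj_comm (E64_comm x hx y hy) k) h
  intro x hx
  have h1 := key 1 (fun y hy => by simpa using hEQ hy)
  let F : E64 φ → E64 φ := fun y => ⟨h * (1 * y.1 * 1⁻¹) * h⁻¹, h1 y.1 y.2⟩
  obtain ⟨⟨y, hy⟩, e⟩ := Finite.surjective_of_injective (f := F)
    (fun p q e => Subtype.ext (by
      have e1 : h * (1 * p.1 * 1⁻¹) * h⁻¹ = h * (1 * q.1 * 1⁻¹) * h⁻¹ := congrArg Subtype.val e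
      simpa using e1)) ⟨_, key g hg x hx⟩
  have e' : h * (1 * y * 1⁻¹) * h⁻¹ = h * (g * x * g⁻¹) * h⁻¹ := congrArg Subtype.val e
  simp only [one_mul, inv_one, mul_one, mul_left_inj, mul_right_inj] at e'
  exact e' ▸ hy

/-- fusion inside a subgroup containing the abelian subgroup takes place in its normaliser -/
theorem fusion (M : Std φ) {K : Subgroup G} (hK : E64 φ ≤ K) {x y : ℕ} (hx : x < 64) (hy : y < 64) {g : G}
    (hg : g ∈ K) (e : g * a φ x * g⁻¹ = a φ y) :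
    ∃ n ∈ K, (∀ p ∈ E64 φ, n * p * n⁻¹ ∈ E64 φ) ∧ n * a φ x * n⁻¹ = a φ y := by
  obtain ⟨n, h1, h2, h3⟩ := fusion_in_normalizer E64_pgroup E64_comm M.weakly hK hg (a_mem hx) (e ▸ a_mem hy)
  exact ⟨n, h1, h2, h3.trans e⟩

/-- an element normalising the abelian subgroup acts linearly on the coordinates -/
theorem exists_map (M : Std φ) {n : G} (hn : ∀ p ∈ E64 φ, n * p * n⁻¹ ∈ E64 φ) :
    ∃ σ : ℕ → ℕ, (∀ x < 64, σ x < 64 ∧ n * a φ x * n⁻¹ = a φ (σ x)) ∧ σ 0 = 0 ∧
      (∀ x < 64, ∀ y < 64, σ (x ^^^ y) = σ x ^^^ σ y) ∧ (∀ x < 64, ∀ y < 64, σ x = σ y → x = y) ∧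
      ∀ y < 64, ∃ x < 64, σ x = y := by
  have h : ∀ x, ∃ y, x < 64 → y < 64 ∧ n * a φ x * n⁻¹ = a φ y := by
    intro x
    by_cases hx : x < 64
    · obtain ⟨y, hy, e⟩ := hn _ (a_mem hx)
      exact ⟨y, fun _ => ⟨hy, e.symm⟩⟩
    · exact ⟨0, fun h => absurd h hx⟩
  choose σ hσ using h
  have hinj : ∀ x < 64, ∀ y < 64, σ x = σ y → x = y := fun x hx y hy e => M.a_inj hx hy (by
    have h' := (hσ x hx).2.trans ((congrArg (a φ) e).trans (hσ y hy).2.symm)
    simpa using h')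
  refine ⟨σ, hσ, M.a_inj (hσ 0 (by norm_num)).1 (by norm_num) ?_, fun x hx y hy => ?_, hinj, fun y hy => ?_⟩
  · rw [← (hσ 0 (by norm_num)).2, a_zero]; group
  · refine M.a_inj (hσ _ (xor_lt hx hy)).1 (xor_lt (hσ x hx).1 (hσ y hy).1) ?_
    rw [← (hσ _ (xor_lt hx hy)).2, ← a_mul hx hy, ← a_mul (hσ x hx).1 (hσ y hy).1, ← (hσ x hx).2, ← (hσ y hy).2]
    group
  · let F : Fin 64 → Fin 64 := fun x => ⟨σ x.1, (hσ x.1 x.2).1⟩
    obtain ⟨x, hx⟩ := Finite.surjective_of_injective (f := F)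
      (fun p q e => Fin.ext (hinj p.1 p.2 q.1 q.2 (congrArg Fin.val e))) ⟨y, hy⟩
    exact ⟨x.1, x.2, congrArg Fin.val hx⟩

/-- every involution is conjugate into the abelian subgroup -/
theorem invol_to_E (M : Std φ) {t : G} (ht : t * t = 1) : ∃ g : G, ∃ x < 64, g * t * g⁻¹ = a φ x := by
  haveI := Fact.mk Nat.prime_two
  obtain ⟨h, hh⟩ := M.exists_into (Q := Subgroup.zpowers t) (by
    rintro ⟨_, k, rfl⟩
    refine ⟨1, Subtype.ext ?_⟩
    show (t ^ k) ^ (2 ^ 1) = 1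
    rw [pow_one, pow_two, ← (Commute.refl t).mul_zpow, ht, one_zpow])
  obtain ⟨p, hp, e⟩ := hh t (Subgroup.mem_zpowers t)
  have hp2 : p * p = 1 := M.em_inj (mul_mem (S12_le hp) (S12_le hp)) (one_mem _) (by
    rw [em_mul φ (S12_le hp) (S12_le hp), e, conj_sq ht, em_one])
  obtain ⟨w, hw, x, hx, e'⟩ := invol_to_A hp hp2
  refine ⟨em φ w * h, x, hx, ?_⟩
  rw [a, ← e', em_conj φ hw (S12_le hp), e]; group

end Std

end CfsgLib.TwelveCent
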