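import Cfsg.Agent.Lib.TwelveCent.SympGraph

/-!
The case of seven conjugates: the conjugates commute within one connected set, so the group acts on it.
-/

set_option autoImplicit false
set_option linter.style.haveILetI false
set_option linter.unusedSectionVars false

namespace CfsgLib.TwelveCent

/-- the seven coordinates -/
def o7 : List ℕ := [56, 1, 2, 4, 9, 18, 36]

theorem o7_table : ((List.range 64).all fun x => (oset 1).testBit x == o7.contains x) = true := by decide +kernel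

theorem o7_lt : ∀ x ∈ o7, x < 64 := by decide

/-- membership in the even set with sum `b`, invariantly -/
def inBlock7 (b x : ℕ) : Bool :=
  b == x || (o7.any fun y => x ^^^ y == b) ||
    o7.any fun y => o7.any fun z => y != z && x != y && x != z && x ^^^ y ^^^ z == b

theorem inT_split : ((List.range 64).all fun b => b == 0 ||
    ((o7.any fun x => inBlock7 b x) && o7.any fun x => !inBlock7 b x)) = true := by decide +kernel

theorem pair_sum_unique : ∀ p ∈ o7, ∀ q ∈ o7, p ≠ q → ∀ x ∈ o7, ∀ y ∈ o7, x ^^^ y = p ^^^ q →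
    (x = p ∧ y = q) ∨ (x = q ∧ y = p) := by decide +kernel

theorem span_table : ((List.range 64).all fun b => o7.any fun p => o7.any fun q =>
    o7.any fun x => o7.any fun y => o7.any fun z => o7.any fun w => p ^^^ q ^^^ (x ^^^ y) ^^^ (z ^^^ w) == b) = true := by
  decide +kernel

variable {G : Type*} [Group G] {φ : X12 →* G}

/-- the stabiliser of the connected set -/
def stab (φ : X12 →* G) : Subgroup G where
  carrier := {g | ∀ d, d ∈ Gam φ ↔ g * d * g⁻¹ ∈ Gam φ}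
  one_mem' := fun d => by simp
  mul_mem' := by
    intro g h hg hh d
    rw [hh d, hg, show g * (h * d * h⁻¹) * g⁻¹ = g * h * d * (g * h)⁻¹ by group]
  inv_mem' := by
    intro g hg d
    rw [hg (g⁻¹ * d * g⁻¹⁻¹), show g * (g⁻¹ * d * g⁻¹⁻¹) * g⁻¹ = d by group]

namespace Seven

variable [Finite G] (Y : Seven φ)
include Y

theorem o7_iff {x : ℕ} (hx : x < 64) : a φ x ∈ DD φ ↔ x ∈ o7 := by
  have h := beq_iff_eq.1 (List.all_eq_true.1 o7_table x (List.mem_range.2 hx))
  show IsConj (em φ alp) (a φ x) ↔ _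
  rw [Y.cls x hx, h, List.contains_eq_mem, decide_eq_true_eq]

theorem o7_Gam {x : ℕ} (hx : x < 64) (h : a φ x ∈ DD φ) : a φ x ∈ Gam φ :=
  Y.Gam_closed alp_Gam h (by rw [← a_alp]; exact a_comm hx (by norm_num))

theorem mem_stab {u g : G} (hu : u ∈ Gam φ) (hg : g * u * g⁻¹ ∈ Gam φ) : g ∈ stab φ := by
  intro d
  constructor
  · intro hd
    obtain ⟨c, hc, h1, h2⟩ := Y.Gam_diam hu hd
    exact Y.Gam_closed (Y.Gam_closed hg (DD_conj hc.1 g) (conj_comm h1 g)) (DD_conj hd.1 g) (conj_comm h2.symm g)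
  · intro hd
    obtain ⟨c, hc, h1, h2⟩ := Y.Gam_diam hg hd
    have hdD : d ∈ DD φ := by simpa [mul_assoc] using DD_conj hd.1 g⁻¹
    have e1 : g⁻¹ * c * g * u = u * (g⁻¹ * c * g) := by simpa [mul_assoc] using conj_comm h1 g⁻¹
    have e2 : d * (g⁻¹ * c * g) = g⁻¹ * c * g * d := by simpa [mul_assoc] using conj_comm h2.symm g⁻¹
    exact Y.Gam_closed (Y.Gam_closed hu (by simpa using DD_conj hc.1 g⁻¹) e1) hdD e2

theorem cent_stab {u g : G} (hu : u ∈ Gam φ) (hg : g * u = u * g) : g ∈ stab φ :=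
  Y.mem_stab hu (by rw [hg, mul_inv_cancel_right]; exact hu)

theorem Gam_stab {u : G} (hu : u ∈ Gam φ) : u ∈ stab φ := Y.cent_stab hu rfl

theorem E64_stab : E64 φ ≤ stab φ := by
  rintro _ ⟨x, hx, rfl⟩
  exact Y.cent_stab alp_Gam (by rw [← a_alp]; exact a_comm hx (by norm_num))

/-- 2-subgroups of the stabiliser are conjugate inside it into the Sylow subgroup -/
theorem into_stab {Q : Subgroup G} (hQ : IsPGroup 2 Q) (hle : Q ≤ stab φ) :
    ∃ h ∈ stab φ, ∀ q ∈ Q, ∃ x ∈ S12, em φ x = h * q * h⁻¹ := by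
  haveI := Fact.mk Nat.prime_two
  obtain ⟨P, hP⟩ := Y.std.syl
  have hPH : (P : Subgroup G) ≤ stab φ := by
    intro g hg
    obtain ⟨x, hx, rfl⟩ := (hP g).1 hg
    refine Y.cent_stab alp_Gam ?_
    rw [← em_mul φ (S12_le hx) alp_mem, ← em_mul φ alp_mem (S12_le hx), (mem_X12.1 (S12_le hx)).2]
  obtain ⟨R, hR⟩ := (hQ.comap_of_injective (stab φ).subtype (stab φ).subtype_injective).exists_le_sylow
  obtain ⟨k, hk⟩ := MulAction.exists_smul_eq (stab φ) R (P.subtype hPH)
  refine ⟨k, k.2, fun q hq => (hP _).1 ?_⟩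
  have hm : k * ⟨q, hle hq⟩ * k⁻¹ ∈ (P.subtype hPH : Subgroup (stab φ)) := by
    rw [← hk]; exact ⟨_, hR hq, rfl⟩
  exact hm

/-- members of the class in the Sylow subgroup lie in the abelian subgroup -/
theorem DD_sylow {p : P12} (hp : p ∈ S12) (h : em φ p ∈ DD φ) : ∃ x < 64, em φ p = a φ x := by
  rcases Y.nbr_alp h (by rw [← em_mul φ (S12_le hp) alp_mem, ← em_mul φ alp_mem (S12_le hp),
      (mem_X12.1 (S12_le hp)).2]) with e | ⟨i, e⟩
  · exact ⟨56, by norm_num, by rw [e, a_alp]⟩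
  · obtain ⟨x, hx, k, hk, rfl⟩ := hp
    have he := Y.std.em_inj (mul_mem (av_mem hx) (kv_mem k)) (lE_mem i) e
    have hk0 : k = 0 := by
      by_contra hk0
      obtain ⟨l, hl, hl'⟩ : ∃ l < 8, kv k * kv l = 1 := by
        have h : ((List.range 8).all fun k => (List.range 8).any fun l => same (kv k * kv l) 1) = true := by
          decide +kernel
        obtain ⟨l, hl, e⟩ := List.any_eq_true.1 (List.all_eq_true.1 h k (List.mem_range.2 hk))
        exact ⟨l, List.mem_range.1 hl, same_iff.1 e⟩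
      have hA : inA (lE i * kv l) = true := inA_iff.2 ⟨x, hx, by rw [← he, mul_assoc, hl', mul_one]⟩
      have := List.all_eq_true.1 (List.all_eq_true.1 lE_S_table i (List.mem_finRange i)) l (List.mem_range.2 hl)
      rw [hA, Bool.not_true, Bool.or_false, beq_iff_eq] at this
      subst this
      rw [kv_zero, mul_one] at hl'
      exact hk0 (kv_eq_av hk ⟨0, by norm_num, by rw [av_zero, hl']⟩)
    exact ⟨x, hx, by rw [hk0, kv_zero, mul_one]; rfl⟩

theorem DD_stab {d : G} (hd : d ∈ DD φ) (hH : d ∈ stab φ) : d ∈ Gam φ := by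
  obtain ⟨h, hhH, hh⟩ := Y.into_stab (Q := Subgroup.zpowers d) (by
    rintro ⟨_, k, rfl⟩
    refine ⟨1, Subtype.ext ?_⟩
    show (d ^ k) ^ (2 ^ 1) = 1
    rw [pow_one, pow_two, ← (Commute.refl d).mul_zpow, Y.sq hd, one_zpow]) (Subgroup.zpowers_le.2 hH)
  obtain ⟨p, hp, e⟩ := hh d (Subgroup.mem_zpowers d)
  obtain ⟨x, hx, e'⟩ := Y.DD_sylow hp (e ▸ DD_conj hd h)
  exact (hhH d).2 (e ▸ e' ▸ Y.o7_Gam hx (by rw [← e', e]; exact DD_conj hd h))

/-- a set of pairwise commuting members is conjugate inside the stabiliser into the abelian subgroup -/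
theorem clique {F : Set G} (hF : F ⊆ Gam φ) (hc : ∀ f ∈ F, ∀ g ∈ F, f * g = g * f) :
    ∃ h ∈ stab φ, ∀ f ∈ F, h * f * h⁻¹ ∈ E64 φ := by
  have hQ : IsPGroup 2 (Subgroup.closure F) := by
    rintro ⟨g, hg⟩
    suffices g * g = 1 by exact ⟨1, Subtype.ext (by rw [pow_one, pow_two]; exact this)⟩
    haveI : IsMulCommutative (Subgroup.closure F) := ⟨⟨fun p q =>
      (Subgroup.isMulCommutative_closure fun x hx y hy => hc x hx y hy).is_comm.comm p q⟩⟩
    have hcm : ∀ p ∈ Subgroup.closure F, ∀ q ∈ Subgroup.closure F, p * q = q * p := fun p hp q hq =>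
      congrArg Subtype.val (mul_comm' (⟨p, hp⟩ : Subgroup.closure F) ⟨q, hq⟩)
    induction hg using Subgroup.closure_induction with
    | mem x hx => exact Y.sq (hF hx).1
    | one => exact one_mul 1
    | mul x y hx hy ihx ihy =>
      rw [show x * y * (x * y) = x * (y * x) * y by group, ← hcm x hx y hy,
        show x * (x * y) * y = x * x * (y * y) by group, ihx, ihy, one_mul]
    | inv x hx ih => rw [← mul_inv_rev, ih, inv_one]
  obtain ⟨h, hhH, hh⟩ := Y.into_stab (Q := Subgroup.closure F) hQ ((Subgroup.closure_le _).2 fun f hf => Y.Gam_stab (hF hf))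
  refine ⟨h, hhH, fun f hf => ?_⟩
  obtain ⟨p, hp, e⟩ := hh f (Subgroup.subset_closure hf)
  obtain ⟨x, hx, e'⟩ := Y.DD_sylow hp (e ▸ DD_conj (hF hf).1 h)
  exact ⟨x, hx, e'.symm.trans e⟩

/-- a stranger and a member: conjugate, or the stranger centralises a pair and is conjugate to its second member -/
theorem stranger {d u : G} (hd : d ∈ DD φ) (hd' : d ∉ Gam φ) (hu : u ∈ Gam φ) (K : Subgroup G) (huK : u ∈ K)
    (hdK : d ∈ K) :
    (∃ k ∈ K, k * u * k⁻¹ = d) ∨ ∃ v ∈ Gam φ, v ≠ u ∧ v * u = u * v ∧ v ∈ K ∧ d * (u * v) = u * v * d ∧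
      ∃ k ∈ K, k * d * k⁻¹ = v := by
  have hu2 := Y.two hu.1
  have hd2 := Y.two hd
  rcases Nat.even_or_odd (orderOf (u * d)) with he | ho
  swap
  · left
    obtain ⟨k, hk, e⟩ := CfsgLib.Invol.exists_mem_closure_conj_of_odd hu2 hd2 ho
    exact ⟨k, ((Subgroup.closure_le _).2 (by rintro w (rfl | rfl); exacts [huK, hdK])) hk, e⟩
  right
  set z := CfsgLib.Invol.centralInvol u d with hz
  have hzu := CfsgLib.Invol.centralInvol_comm_left hu2 hd2 he
  have hzd := CfsgLib.Invol.centralInvol_comm_right hu2 hd2 he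
  have hzK : z ∈ K :=
    ((Subgroup.closure_le _).2 (by rintro w (rfl | rfl); exacts [huK, hdK])) (CfsgLib.Invol.centralInvol_mem_closure u d)
  have hz1 : z ≠ 1 := CfsgLib.Invol.centralInvol_ne_one u d he
  have hvD : u * z ∈ DD φ := by
    rcases CfsgLib.Invol.left_mul_centralInvol_isConj hu2 hd2 he with h | h
    · exact hu.1.trans h
    · exact IsConj.trans hd h
  have hvc : u * z * u = u * (u * z) := by rw [mul_assoc, hzu.eq]
  have hvG : u * z ∈ Gam φ := Y.Gam_closed hu hvD hvc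
  have huv : u * (u * z) = z := by rw [← mul_assoc, Y.sq hu.1, one_mul]
  refine ⟨u * z, hvG, fun e => hz1 (mul_eq_left.1 e), hvc, mul_mem huK hzK, by rw [huv]; exact hzd.eq.symm, ?_⟩
  rcases exists_quarter hu2 hd2 he hz.symm K huK hdK with h | ⟨s, hsK, hs2, hus, hs⟩
  · exact h
  exfalso
  have hsD : s ∈ DD φ := by
    rcases hs with ⟨k, -, rfl⟩ | ⟨k, -, rfl⟩
    · exact DD_conj hu.1 k
    · exact DD_conj hd k
  have hsu : s * u * s⁻¹ = u * z := by
    rw [inv_eq_of_mul_eq_one_left hs2, ← huv, ← mul_assoc u u, Y.sq hu.1, one_mul, ← hus,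
      show u * (u * s * (u * s)) = u * u * (s * u * s) by group, Y.sq hu.1, one_mul]
  have hsG : s ∈ Gam φ := Y.DD_stab hsD (Y.mem_stab hu (hsu ▸ hvG))
  have hne : u * s ≠ s * u := fun e => hz1 (by
    rw [← hus, show u * s * (u * s) = u * (s * u) * s by group, ← e,
      show u * (u * s) * s = u * u * (s * s) by group, Y.sq hu.1, hs2, one_mul])
  have h3 := Y.Gam_three hu hsG hne
  rw [hus] at h3
  have hus1 : u * s = z := by
    have hzz : z * z = 1 := CfsgLib.Invol.mul_self_of_orderOf_two (CfsgLib.Invol.orderOf_centralInvol u d he)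
    calc u * s = z * z * (u * s) := by rw [hzz, one_mul]
      _ = z := by rw [mul_assoc, h3, mul_one]
  refine hne ?_
  have h1 : u * s * u = u * (u * s) := by rw [hus1]; exact hzu.eq
  rw [← mul_assoc u u, Y.sq hu.1, one_mul] at h1
  calc u * s = u * (u * s * u) := by rw [h1]
    _ = u * u * s * u := by group
    _ = s * u := by rw [Y.sq hu.1, one_mul]

/-- products of two distinct members of the class in the abelian subgroup -/
def pairSet (φ : X12 →* G) : Set G :=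
  {g | ∃ f f', f ∈ DD φ ∧ f ∈ E64 φ ∧ f' ∈ DD φ ∧ f' ∈ E64 φ ∧ f ≠ f' ∧ g = f * f'}

theorem fusion_fix {B : Set G} {x y : ℕ} (hx : x < 64) (hy : y < 64) (hB : B ⊆ E64 φ)
    {k : G} (hk : k ∈ Subgroup.centralizer B) (e : k * a φ x * k⁻¹ = a φ y) :
    ∃ σ : ℕ → ℕ, (∀ z < 64, σ z < 64) ∧ σ x = y ∧ (∀ z < 64, ∀ w < 64, σ (z ^^^ w) = σ z ^^^ σ w) ∧
      (∀ z ∈ o7, σ z ∈ o7) ∧ (∀ z < 64, ∀ w < 64, σ z = σ w → z = w) ∧ (∀ z < 64, a φ z ∈ B → σ z = z) ∧
      ∃ n ∈ Subgroup.centralizer B, ∀ z < 64, n * a φ z * n⁻¹ = a φ (σ z) := by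
  have hle : E64 φ ≤ Subgroup.centralizer B := fun p hp => Subgroup.mem_centralizer_iff.2 fun q hq =>
    E64_comm q (hB hq) p hp
  obtain ⟨n, hnK, hn, hn'⟩ := Y.std.fusion hle hx hy hk e
  obtain ⟨σ, hσ, -, hlin, hinj, -⟩ := Y.std.exists_map hn
  refine ⟨σ, fun z hz => (hσ z hz).1, Y.std.a_inj (hσ x hx).1 hy ((hσ x hx).2.symm.trans hn'), hlin, fun z hz => ?_,
    hinj, fun z hz hzB => ?_, n, hnK, fun z hz => (hσ z hz).2⟩
  · refine (Y.o7_iff (hσ z (o7_lt z hz)).1).1 ?_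
    rw [← (hσ z (o7_lt z hz)).2]
    exact DD_conj ((Y.o7_iff (o7_lt z hz)).2 hz) n
  · refine Y.std.a_inj (hσ z hz).1 hz ?_
    rw [← (hσ z hz).2, ← Subgroup.mem_centralizer_iff.1 hnK _ hzB, mul_inv_cancel_right]

/-- a transitive group on the seven fixes no non-trivial element -/
theorem not_transitive {B : Set G} (hB : B ⊆ E64 φ) {b : ℕ} (hb : b < 64) (hb0 : b ≠ 0) (hbB : a φ b ∈ B)
    (h : ∀ x ∈ o7, ∀ y ∈ o7, ∃ k ∈ Subgroup.centralizer B, k * a φ x * k⁻¹ = a φ y) : False := by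
  have ht := List.all_eq_true.1 inT_split b (List.mem_range.2 hb)
  rw [Bool.or_eq_true, beq_iff_eq, or_iff_right hb0, Bool.and_eq_true] at ht
  obtain ⟨x, hx, hxT⟩ := List.any_eq_true.1 ht.1
  obtain ⟨y, hy, hyT⟩ := List.any_eq_true.1 ht.2
  obtain ⟨k, hk, e⟩ := h x hx y hy
  obtain ⟨σ, hlt, hσx, hlin, ho, hinj, hfix, -⟩ := Y.fusion_fix (o7_lt x hx) (o7_lt y hy) hB hk e
  have hsb : σ b = b := hfix b hb hbB
  rw [Bool.not_eq_true'] at hyT
  refine absurd ?_ (Bool.not_eq_true _ ▸ hyT : ¬ inBlock7 b y = true)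
  simp only [inBlock7, Bool.or_eq_true, beq_iff_eq, List.any_eq_true, Bool.and_eq_true, bne_iff_ne] at hxT ⊢
  rcases hxT with (e' | ⟨p, hp, e'⟩) | ⟨p, hp, q, hq, ⟨⟨h1, h2⟩, h3⟩, e'⟩
  · exact .inl (.inl (by rw [← hσx, ← e', hsb]))
  · exact .inl (.inr ⟨σ p, ho p hp, by rw [← hσx, ← hlin x (o7_lt x hx) p (o7_lt p hp), e', hsb]⟩)
  · refine .inr ⟨σ p, ho p hp, σ q, ho q hq, ⟨⟨fun e => h1 (hinj p (o7_lt p hp) q (o7_lt q hq) e), fun e => ?_⟩,
      fun e => ?_⟩, ?_⟩
    · exact h2 (hinj x (o7_lt x hx) p (o7_lt p hp) (hσx.trans e))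
    · exact h3 (hinj x (o7_lt x hx) q (o7_lt q hq) (hσx.trans e))
    · rw [← hσx, ← hlin x (o7_lt x hx) p (o7_lt p hp),
        ← hlin _ (xor_lt (o7_lt x hx) (o7_lt p hp)) q (o7_lt q hq), e', hsb]

/-- members centralising a set of pairs lie in the connected set -/
theorem pairs_closed : ∀ (n : ℕ) (B : Set G), B ⊆ pairSet φ → B.Nonempty →
    64 ≤ n + Nat.card (Subgroup.closure B) → ∀ d ∈ DD φ, (∀ b ∈ B, d * b = b * d) → d ∈ Gam φ := by
  intro n
  induction n using Nat.strong_induction_on with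
  | _ n ih =>
  intro B hP hne hn d hd hdc
  by_contra hdG
  have hPE : pairSet φ ⊆ E64 φ := by
    rintro _ ⟨f, g, -, hf, -, hg, -, rfl⟩
    exact mul_mem hf hg
  have hBE : B ⊆ E64 φ := hP.trans hPE
  have hBc : Subgroup.closure B ≤ E64 φ := (Subgroup.closure_le _).2 hBE
  set K := Subgroup.centralizer B with hKdef
  have hdK : d ∈ K := Subgroup.mem_centralizer_iff.2 fun b hb => (hdc b hb).symm
  have hEK : E64 φ ≤ K := fun p hp => Subgroup.mem_centralizer_iff.2 fun q hq => E64_comm q (hBE hq) p hp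
  -- each of the seven is fused with `d` or is paired with one which is
  have key : ∀ x ∈ o7, (∃ k ∈ K, k * a φ x * k⁻¹ = d) ∨
      ∃ y ∈ o7, y ≠ x ∧ a φ (x ^^^ y) ∈ Subgroup.closure B ∧ ∃ k ∈ K, k * a φ y * k⁻¹ = d := by
    intro x hx
    have hxD := (Y.o7_iff (o7_lt x hx)).2 hx
    have hxG := Y.o7_Gam (o7_lt x hx) hxD
    rcases Y.stranger hd hdG hxG K (hEK (a_mem (o7_lt x hx))) hdK with h | ⟨v, hvG, hvne, hvc, hvK, hdz, k, hk, hkv⟩
    · exact .inl h
    right
    set u := a φ x with hu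
    have hzB : u * v ∈ Subgroup.closure B := by
      by_contra hzB
      let Fs : Set G := {f | f ∈ DD φ ∧ f ∈ E64 φ ∧ ∃ g, g ∈ DD φ ∧ g ∈ E64 φ ∧ f ≠ g ∧ f * g ∈ B}
      set F' : Set G := insert u (insert v Fs) with hF'
      have hvf : ∀ f ∈ Fs, v * f = f * v := by
        rintro f ⟨hfD, hfE, g, hgD, hgE, hfg, hb⟩
        exact Y.split_com hxD hfD hgD hvG.1 (E64_comm f hfE u (a_mem (o7_lt x hx)))
          (E64_comm g hgE u (a_mem (o7_lt x hx))) hvc (E64_comm f hfE g hgE) hfg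
          (Subgroup.mem_centralizer_iff.1 hvK _ hb).symm
      have hF'G : F' ⊆ Gam φ := by
        rintro f (rfl | rfl | ⟨hfD, ⟨y, hy, rfl⟩, -⟩)
        · exact hxG
        · exact hvG
        · exact Y.o7_Gam hy hfD
      have hF'c : ∀ f ∈ F', ∀ g ∈ F', f * g = g * f := by
        have huf : ∀ f ∈ Fs, u * f = f * u := fun f hf => E64_comm u (a_mem (o7_lt x hx)) f hf.2.1
        rintro f (rfl | rfl | hf) g (rfl | rfl | hg)
        · rfl
        · exact hvc.symm
        · exact huf g hg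
        · exact hvc
        · rfl
        · exact hvf g hg
        · exact (huf f hf).symm
        · exact (hvf f hf).symm
        · exact E64_comm f hf.2.1 g hg.2.1
      obtain ⟨h, hhH, hh⟩ := Y.clique hF'G hF'c
      set B' : Set G := (fun b => h * b * h⁻¹) '' insert (u * v) B with hB'
      have hB'P : B' ⊆ pairSet φ := by
        have mk : ∀ f ∈ F', ∀ g ∈ F', f ≠ g → h * (f * g) * h⁻¹ ∈ pairSet φ := fun f hf g hg hfg =>
          ⟨h * f * h⁻¹, h * g * h⁻¹, DD_conj (hF'G hf).1 h, hh f hf, DD_conj (hF'G hg).1 h, hh g hg,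
            fun e => hfg (mul_left_cancel (mul_right_cancel e)), by group⟩
        rintro _ ⟨b, (rfl | hb), rfl⟩
        · exact mk u (Or.inl rfl) v (Or.inr (Or.inl rfl)) hvne.symm
        · obtain ⟨f, g, hfD, hfE, hgD, hgE, hfg, rfl⟩ := hP hb
          exact mk f (Or.inr (Or.inr ⟨hfD, hfE, g, hgD, hgE, hfg, hb⟩)) g
            (Or.inr (Or.inr ⟨hgD, hgE, f, hfD, hfE, hfg.symm, by rwa [E64_comm g hgE f hfE]⟩)) hfg
      have hlt : Nat.card (Subgroup.closure B) < Nat.card (Subgroup.closure B') := by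
        have e : Subgroup.closure B' = (Subgroup.closure (insert (u * v) B)).map (MulAut.conj h).toMonoidHom := by
          rw [MonoidHom.map_closure]; rfl
        rw [e, Subgroup.card_map_of_injective (MulAut.conj h).injective]
        have hle : Subgroup.closure B ≤ Subgroup.closure (insert (u * v) B) :=
          Subgroup.closure_mono (Set.subset_insert _ _)
        exact lt_of_le_of_ne (Subgroup.card_le_of_le hle) fun e =>
          hzB ((Subgroup.eq_of_le_of_card_ge hle e.ge).symm ▸ Subgroup.subset_closure (Set.mem_insert _ _))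
      have hcard : Nat.card (Subgroup.closure B') ≤ 64 := by
        refine le_trans (Subgroup.card_le_of_le ((Subgroup.closure_le _).2 (hB'P.trans hPE))) ?_
        have hsur : Function.Surjective (fun i : Fin 64 => (⟨a φ i.1, a_mem i.2⟩ : E64 φ)) := by
          rintro ⟨_, y, hy, rfl⟩; exact ⟨⟨y, hy⟩, rfl⟩
        refine (Nat.card_le_card_of_surjective _ hsur).trans ?_
        rw [Nat.card_eq_fintype_card, Fintype.card_fin]
      have hdh : ∀ b ∈ B', h * d * h⁻¹ * b = b * (h * d * h⁻¹) := by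
        rintro _ ⟨b, (rfl | hb), rfl⟩
        · exact conj_comm hdz h
        · exact conj_comm (hdc b hb) h
      exact hdG ((hhH d).2 (ih (64 - Nat.card (Subgroup.closure B')) (by omega) B' hB'P
        ⟨_, Set.mem_image_of_mem _ (Set.mem_insert _ _)⟩ (by omega) _ (DD_conj hd h) hdh))
    have hvE : v ∈ E64 φ := by
      have h := mul_mem (a_mem (φ := φ) (o7_lt x hx)) (hBc hzB)
      rwa [← hu, ← mul_assoc, Y.sq hxD, one_mul] at h
    obtain ⟨y, hy, rfl⟩ := hvE
    have hy7 := (Y.o7_iff hy).1 hvG.1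
    refine ⟨y, hy7, fun e => hvne (by rw [hu, e]), ?_, k⁻¹, inv_mem hk, ?_⟩
    · rw [← a_mul (o7_lt x hx) hy]; exact hzB
    · rw [← hkv]; group
  -- the orbits
  obtain ⟨b, hb, hb0, hbB⟩ : ∃ b < 64, b ≠ 0 ∧ a φ b ∈ B := by
    obtain ⟨g, hg⟩ := hne
    obtain ⟨b, hb, e⟩ := hBE hg
    refine ⟨b, hb, fun e' => ?_, e.symm ▸ hg⟩
    obtain ⟨f, f', hfD, -, -, -, hff, rfl⟩ := hP hg
    rw [e', a_zero] at e
    exact hff (mul_left_cancel ((Y.sq hfD).trans e))
  by_cases hall : ∀ x ∈ o7, ∃ k ∈ K, k * a φ x * k⁻¹ = d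
  · refine Y.not_transitive hBE hb hb0 hbB fun x hx y hy => ?_
    obtain ⟨k, hk, e⟩ := hall x hx
    obtain ⟨l, hl, e'⟩ := hall y hy
    refine ⟨l⁻¹ * k, mul_mem (inv_mem hl) hk, ?_⟩
    rw [show l⁻¹ * k * a φ x * (l⁻¹ * k)⁻¹ = l⁻¹ * (k * a φ x * k⁻¹) * l by group, e, ← e']; group
  push Not at hall
  obtain ⟨x, hx, hxK⟩ := hall
  obtain ⟨y, hy, hyx, hxy, ky, hky, ey⟩ := (key x hx).resolve_left fun ⟨k, hk, e⟩ => hxK k hk e
  have honly : ∀ z ∈ o7, (∃ k ∈ K, k * a φ z * k⁻¹ = d) → z = y := by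
    rintro z hz ⟨k, hk, e⟩
    have hk' : k⁻¹ * ky ∈ K := mul_mem (inv_mem hk) hky
    obtain ⟨σ, hlt, hσy, hlin, ho, hinj, -, nn, hnn, hσa⟩ := Y.fusion_fix (o7_lt y hy) (o7_lt z hz) hBE hk'
      (by rw [show k⁻¹ * ky * a φ y * (k⁻¹ * ky)⁻¹ = k⁻¹ * (ky * a φ y * ky⁻¹) * k by group, ey, ← e]; group)
    have hfix : σ (x ^^^ y) = x ^^^ y := by
      refine Y.std.a_inj (hlt _ (xor_lt (o7_lt x hx) (o7_lt y hy))) (xor_lt (o7_lt x hx) (o7_lt y hy)) ?_
      rw [← hσa _ (xor_lt (o7_lt x hx) (o7_lt y hy))]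
      have hcm : nn * a φ (x ^^^ y) = a φ (x ^^^ y) * nn := by
        have := Subgroup.centralizer_closure B ▸ hnn
        exact (Subgroup.mem_centralizer_iff.1 this _ hxy).symm
      rw [hcm, mul_inv_cancel_right]
    rw [hlin x (o7_lt x hx) y (o7_lt y hy), hσy] at hfix
    rcases pair_sum_unique x hx y hy hyx.symm (σ x) (ho x hx) z hz hfix with ⟨-, h2⟩ | ⟨-, h2⟩
    · exact h2
    · exact absurd e (h2 ▸ hxK k hk)
  have hspan : ∀ z ∈ o7, a φ (z ^^^ y) ∈ Subgroup.closure B := by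
    intro z hz
    by_cases hzy : z = y
    · rw [hzy, Nat.xor_self, a_zero]; exact one_mem _
    · obtain ⟨y', hy', -, hzy', hk'⟩ := (key z hz).resolve_left fun h => hzy (honly z hz h)
      rwa [← honly y' hy' hk']
  have hfull : ∀ w < 64, d * a φ w = a φ w * d := by
    intro w hw
    have ht := List.all_eq_true.1 span_table w (List.mem_range.2 hw)
    simp only [List.any_eq_true, beq_iff_eq] at ht
    obtain ⟨p, hp, q, hq, r, hr, s, hs, t, ht, w', hw', e⟩ := ht
    have hy' := o7_lt y hy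
    have two : ∀ p ∈ o7, ∀ q ∈ o7, a φ (p ^^^ q) ∈ Subgroup.closure B := fun p hp q hq => by
      have := mul_mem (hspan p hp) (hspan q hq)
      rwa [a_mul (xor_lt (o7_lt p hp) hy') (xor_lt (o7_lt q hq) hy'),
        show p ^^^ y ^^^ (q ^^^ y) = p ^^^ q by
          rw [Nat.xor_comm q y, Nat.xor_assoc, ← Nat.xor_assoc y y, Nat.xor_self, Nat.zero_xor]] at this
    have hpq : a φ w ∈ Subgroup.closure B := by
      have h1 := xor_lt (o7_lt p hp) (o7_lt q hq)
      have h2 := xor_lt (o7_lt r hr) (o7_lt s hs)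
      rw [← e, ← a_mul (xor_lt h1 h2) (xor_lt (o7_lt t ht) (o7_lt w' hw')), ← a_mul h1 h2]
      exact mul_mem (mul_mem (two p hp q hq) (two r hr s hs)) (two t ht w' hw')
    have hdc' : d ∈ Subgroup.centralizer (Subgroup.closure B : Set G) := by
      rw [Subgroup.centralizer_closure]; exact hdK
    exact (Subgroup.mem_centralizer_iff.1 hdc' _ hpq).symm
  obtain ⟨w, hw, rfl⟩ := Y.std.cent_E64 hfull
  exact hdG (Y.o7_Gam hw hd)

end Seven

end CfsgLib.TwelveCent
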