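import Cfsg.Agent.Lib.TwelveCent.Orbits

/-!
The thirty conjugates of `(02)(13)` in the model: commutation, twins and the local facts behind lines
of three points.
-/

set_option autoImplicit false
set_option maxRecDepth 100000

namespace CfsgLib.TwelveCent

open Equiv

/-- the smaller pair -/
def lp (k : ℕ) : ℕ := [0, 0, 0, 0, 0, 1, 1, 1, 1, 2, 2, 2, 3, 3, 4].getD k 0

/-- the larger pair -/
def lq (k : ℕ) : ℕ := [1, 2, 3, 4, 5, 2, 3, 4, 5, 3, 4, 5, 4, 5, 5].getD k 0

/-- the image of a letter under the `i`th element -/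
def lF (i x : ℕ) : ℕ :=
  bif x / 2 == lp (i / 2) then 2 * lq (i / 2) + (x + i) % 2
  else bif x / 2 == lq (i / 2) then 2 * lp (i / 2) + (x + i) % 2
  else x

theorem lF_table : ((List.range 30).all fun i => (List.range 12).all fun x =>
    Nat.blt (lF i x) 12 && lF i (lF i x) == x) = true := by decide +kernel

theorem lF_spec (i : Fin 30) (x : Fin 12) : lF i.1 x.1 < 12 ∧ lF i.1 (lF i.1 x.1) = x.1 := by
  have h := List.all_eq_true.1 (List.all_eq_true.1 lF_table i.1 (List.mem_range.2 i.2)) x.1 (List.mem_range.2 x.2)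
  simpa using h

/-- the conjugates of `(02)(13)` -/
def lE (i : Fin 30) : P12 :=
  ofInv (fun x => ⟨lF i.1 x.1, (lF_spec i x).1⟩) fun x => Fin.ext (lF_spec i x).2

/-- the twin -/
def twin (i : Fin 30) : Fin 30 := ⟨2 * (i.1 / 2) + (i.1 + 1) % 2, by omega⟩

/-- disjointness of two index pairs -/
def comP (k l : ℕ) : Bool := k == l || !(lp k == lp l || lp k == lq l || lq k == lp l || lq k == lq l)

/-- commutation of indices -/
def com (i j : Fin 30) : Bool := comP (i.1 / 2) (j.1 / 2)

theorem lE_mem_table : ((List.finRange 30).all fun i => inX (lE i)) = true := by decide +kernel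

theorem lE_mem (i : Fin 30) : lE i ∈ X12 := inX_iff.1 (List.all_eq_true.1 lE_mem_table i (List.mem_finRange i))

theorem lE_sq (i : Fin 30) : lE i * lE i = 1 := Equiv.ext fun x => Fin.ext (lF_spec i x).2

theorem lE_inj_table : ((List.finRange 30).all fun i => (List.finRange 30).all fun j =>
    i == j || !same (lE i) (lE j)) = true := by decide +kernel

theorem lE_inj {i j : Fin 30} (h : lE i = lE j) : i = j := by
  have := List.all_eq_true.1 (List.all_eq_true.1 lE_inj_table i (List.mem_finRange i)) j (List.mem_finRange j)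
  rw [Bool.or_eq_true, beq_iff_eq, same_iff.2 h] at this
  simpa using this

theorem com_table : ((List.finRange 30).all fun i => (List.finRange 30).all fun j =>
    same (lE i * lE j) (lE j * lE i) == com i j) = true := by decide +kernel

theorem com_iff (i j : Fin 30) : lE i * lE j = lE j * lE i ↔ com i j = true := by
  rw [← same_iff, beq_iff_eq.1 (List.all_eq_true.1 (List.all_eq_true.1 com_table i (List.mem_finRange i)) j
    (List.mem_finRange j))]

theorem alp_ne_table : ((List.finRange 30).all fun i => !same (lE i) alp) = true := by decide +kernel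

theorem lE_ne_alp (i : Fin 30) : lE i ≠ alp := fun e => by
  have := List.all_eq_true.1 alp_ne_table i (List.mem_finRange i)
  rw [same_iff.2 e] at this
  exact Bool.false_ne_true this

/-- elements carrying the first to each -/
def lw : List P12 :=
  [ofList [0, 1, 2, 3, 4, 5, 6, 7, 8, 9, 10, 11] [0, 1, 2, 3, 4, 5, 6, 7, 8, 9, 10, 11] (by decide +kernel),
    ofList [0, 1, 3, 2, 5, 4, 6, 7, 8, 9, 10, 11] [0, 1, 3, 2, 5, 4, 6, 7, 8, 9, 10, 11] (by decide +kernel),
    ofList [0, 1, 4, 5, 2, 3, 6, 7, 8, 9, 10, 11] [0, 1, 4, 5, 2, 3, 6, 7, 8, 9, 10, 11] (by decide +kernel),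
    ofList [0, 1, 5, 4, 3, 2, 6, 7, 8, 9, 10, 11] [0, 1, 5, 4, 3, 2, 6, 7, 8, 9, 10, 11] (by decide +kernel),
    ofList [0, 1, 6, 7, 2, 3, 4, 5, 8, 9, 10, 11] [0, 1, 4, 5, 6, 7, 2, 3, 8, 9, 10, 11] (by decide +kernel),
    ofList [0, 1, 7, 6, 3, 2, 4, 5, 8, 9, 10, 11] [0, 1, 5, 4, 6, 7, 3, 2, 8, 9, 10, 11] (by decide +kernel),
    ofList [0, 1, 8, 9, 2, 3, 4, 5, 6, 7, 10, 11] [0, 1, 4, 5, 6, 7, 8, 9, 2, 3, 10, 11] (by decide +kernel),
    ofList [0, 1, 9, 8, 3, 2, 4, 5, 6, 7, 10, 11] [0, 1, 5, 4, 6, 7, 8, 9, 3, 2, 10, 11] (by decide +kernel),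
    ofList [0, 1, 10, 11, 2, 3, 4, 5, 6, 7, 8, 9] [0, 1, 4, 5, 6, 7, 8, 9, 10, 11, 2, 3] (by decide +kernel),
    ofList [0, 1, 11, 10, 3, 2, 4, 5, 6, 7, 8, 9] [0, 1, 5, 4, 6, 7, 8, 9, 10, 11, 3, 2] (by decide +kernel),
    ofList [2, 3, 4, 5, 0, 1, 6, 7, 8, 9, 10, 11] [4, 5, 0, 1, 2, 3, 6, 7, 8, 9, 10, 11] (by decide +kernel),
    ofList [2, 3, 5, 4, 1, 0, 6, 7, 8, 9, 10, 11] [5, 4, 0, 1, 3, 2, 6, 7, 8, 9, 10, 11] (by decide +kernel),
    ofList [2, 3, 6, 7, 0, 1, 4, 5, 8, 9, 10, 11] [4, 5, 0, 1, 6, 7, 2, 3, 8, 9, 10, 11] (by decide +kernel),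
    ofList [2, 3, 7, 6, 1, 0, 4, 5, 8, 9, 10, 11] [5, 4, 0, 1, 6, 7, 3, 2, 8, 9, 10, 11] (by decide +kernel),
    ofList [2, 3, 8, 9, 0, 1, 4, 5, 6, 7, 10, 11] [4, 5, 0, 1, 6, 7, 8, 9, 2, 3, 10, 11] (by decide +kernel),
    ofList [2, 3, 9, 8, 1, 0, 4, 5, 6, 7, 10, 11] [5, 4, 0, 1, 6, 7, 8, 9, 3, 2, 10, 11] (by decide +kernel),
    ofList [2, 3, 10, 11, 0, 1, 4, 5, 6, 7, 8, 9] [4, 5, 0, 1, 6, 7, 8, 9, 10, 11, 2, 3] (by decide +kernel),
    ofList [2, 3, 11, 10, 1, 0, 4, 5, 6, 7, 8, 9] [5, 4, 0, 1, 6, 7, 8, 9, 10, 11, 3, 2] (by decide +kernel),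
    ofList [4, 5, 6, 7, 0, 1, 2, 3, 8, 9, 10, 11] [4, 5, 6, 7, 0, 1, 2, 3, 8, 9, 10, 11] (by decide +kernel),
    ofList [4, 5, 7, 6, 1, 0, 2, 3, 8, 9, 10, 11] [5, 4, 6, 7, 0, 1, 3, 2, 8, 9, 10, 11] (by decide +kernel),
    ofList [4, 5, 8, 9, 0, 1, 2, 3, 6, 7, 10, 11] [4, 5, 6, 7, 0, 1, 8, 9, 2, 3, 10, 11] (by decide +kernel),
    ofList [4, 5, 9, 8, 1, 0, 2, 3, 6, 7, 10, 11] [5, 4, 6, 7, 0, 1, 8, 9, 3, 2, 10, 11] (by decide +kernel),
    ofList [4, 5, 10, 11, 0, 1, 2, 3, 6, 7, 8, 9] [4, 5, 6, 7, 0, 1, 8, 9, 10, 11, 2, 3] (by decide +kernel),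
    ofList [4, 5, 11, 10, 1, 0, 2, 3, 6, 7, 8, 9] [5, 4, 6, 7, 0, 1, 8, 9, 10, 11, 3, 2] (by decide +kernel),
    ofList [6, 7, 8, 9, 0, 1, 2, 3, 4, 5, 10, 11] [4, 5, 6, 7, 8, 9, 0, 1, 2, 3, 10, 11] (by decide +kernel),
    ofList [6, 7, 9, 8, 1, 0, 2, 3, 4, 5, 10, 11] [5, 4, 6, 7, 8, 9, 0, 1, 3, 2, 10, 11] (by decide +kernel),
    ofList [6, 7, 10, 11, 0, 1, 2, 3, 4, 5, 8, 9] [4, 5, 6, 7, 8, 9, 0, 1, 10, 11, 2, 3] (by decide +kernel),
    ofList [6, 7, 11, 10, 1, 0, 2, 3, 4, 5, 8, 9] [5, 4, 6, 7, 8, 9, 0, 1, 10, 11, 3, 2] (by decide +kernel),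
    ofList [8, 9, 10, 11, 0, 1, 2, 3, 4, 5, 6, 7] [4, 5, 6, 7, 8, 9, 10, 11, 0, 1, 2, 3] (by decide +kernel),
    ofList [8, 9, 11, 10, 1, 0, 2, 3, 4, 5, 6, 7] [5, 4, 6, 7, 8, 9, 10, 11, 0, 1, 3, 2] (by decide +kernel)]

theorem lw_table : ((List.finRange 30).all fun i => inX (lw.getD i.1 1) &&
    same (lw.getD i.1 1 * av 1 * (lw.getD i.1 1)⁻¹) (lE i)) = true := by decide +kernel

theorem mkl_table : ((List.finRange 12).all fun x => (List.finRange 12).all fun y =>
    y == x || y == alp x ||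
      (List.finRange 30).any fun i => same (lE i) (swap x y * swap (alp x) (alp y))) = true := by decide +kernel

theorem lE_one : lE 0 = av 1 := same_iff.1 (by decide +kernel)

theorem exists_carry (i : Fin 30) : ∃ w ∈ X12, w * lE 0 * w⁻¹ = lE i := by
  have h := List.all_eq_true.1 lw_table i (List.mem_finRange i)
  rw [Bool.and_eq_true, same_iff] at h
  exact ⟨_, inX_iff.1 h.1, by rw [lE_one]; exact h.2⟩

theorem conj_zero {g : P12} (hg : g ∈ X12) : ∃ i, g * lE 0 * g⁻¹ = lE i := by
  have e : lE 0 = swap (0 : Fin 12) 2 * swap (alp 0) (alp 2) := same_iff.1 (by decide +kernel)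
  have hne : g 2 ≠ g 0 ∧ g 2 ≠ alp (g 0) := by
    refine ⟨g.injective.ne (by decide), ?_⟩
    rw [← show g (alp 0) = alp (g 0) from DFunLike.congr_fun (mem_X12.1 hg).2 0]
    exact g.injective.ne (by decide +kernel)
  have h := List.all_eq_true.1 (List.all_eq_true.1 mkl_table (g 0) (List.mem_finRange _)) (g 2) (List.mem_finRange _)
  simp only [Bool.or_eq_true, beq_iff_eq, hne.1, hne.2, false_or] at h
  obtain ⟨i, -, hi⟩ := List.any_eq_true.1 h
  refine ⟨i, ?_⟩
  rw [same_iff.1 hi, e, show g * (swap (0 : Fin 12) 2 * swap (alp 0) (alp 2)) * g⁻¹ =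
    (g * swap (0 : Fin 12) 2 * g⁻¹) * (g * swap (alp 0) (alp 2) * g⁻¹) by group, ← swap_apply_apply,
    ← swap_apply_apply, show g (alp 0) = alp (g 0) from DFunLike.congr_fun (mem_X12.1 hg).2 0,
    show g (alp 2) = alp (g 2) from DFunLike.congr_fun (mem_X12.1 hg).2 2]

theorem conj_lE {g : P12} (hg : g ∈ X12) (i : Fin 30) : ∃ j, g * lE i * g⁻¹ = lE j := by
  obtain ⟨w, hw, e⟩ := exists_carry i
  obtain ⟨j, hj⟩ := conj_zero (mul_mem hg hw)
  exact ⟨j, by rw [← hj, ← e]; group⟩

/-- the six elements in the abelian subgroup -/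
theorem lE_in_A_table : ((List.range 64).all fun x => !(oset 1).testBit x || x == 56 ||
    (List.finRange 30).any fun i => same (lE i) (av x)) = true := by decide +kernel

theorem lE_S_table : ((List.finRange 30).all fun i => (List.range 8).all fun k => k == 0 || !inA (lE i * kv k)) = true := by
  decide +kernel

theorem twin_facts : ∀ i : Fin 30, com i (twin i) = true ∧ twin i ≠ i ∧ twin (twin i) = i ∧ com i i = true ∧
    ∀ j : Fin 30, com j i = com j (twin i) := by decide +kernel

theorem com_symm : ∀ i j : Fin 30, com i j = com j i := by decide +kernel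

theorem twin_unique : ∀ i j : Fin 30, com j i = true → (∀ c : Fin 30, com c i = true → com c j = true) →
    j = i ∨ j = twin i := by decide +kernel

theorem common_neighbour : ∀ i j : Fin 30, com i j = false → ∃ c : Fin 30, com c i = true ∧ com c j = true := by
  decide +kernel

theorem common_stranger : ∀ i : Fin 30, ∃ j : Fin 30, com i j = true ∧ j ≠ i ∧ ∃ c : Fin 30, com c i = false ∧ com c j = false := by
  decide +kernel

theorem third_table : ((List.range 15).all fun k => (List.range 15).all fun l => !comP k l || k == l ||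
    (List.range 15).all fun m => !comP m k || !comP m l || m == k || m == l ||
      (List.range 15).all fun d => comP d k || comP d l || comP d m) = true := by decide +kernel

theorem third_com (x a b d : Fin 30) (hxa : com x a = true) (ha : a ≠ x) (ha' : a ≠ twin x) (hbx : com b x = true)
    (hba : com b a = true) (b1 : b ≠ x) (b2 : b ≠ twin x) (b3 : b ≠ a) (b4 : b ≠ twin a)
    (hdx : com d x = false) (hda : com d a = false) : com d b = true := by
  have hk : ∀ i j : Fin 30, i.1 / 2 = j.1 / 2 → i = j ∨ i = twin j := by decide +kernel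
  have h := List.all_eq_true.1 (List.all_eq_true.1 third_table (x.1 / 2) (List.mem_range.2 (by omega)))
    (a.1 / 2) (List.mem_range.2 (by omega))
  simp only [Bool.or_eq_true, Bool.not_eq_true', beq_iff_eq] at h
  rcases h with (h | h) | h
  · exact absurd hxa (by rw [com, h]; simp)
  · rcases hk a x h.symm with e | e
    · exact absurd e ha
    · exact absurd e ha'
  have h' := List.all_eq_true.1 h (b.1 / 2) (List.mem_range.2 (by omega))
  simp only [Bool.or_eq_true, Bool.not_eq_true', beq_iff_eq] at h'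
  rcases h' with (((h' | h') | h') | h') | h'
  · exact absurd hbx (by rw [com, h']; simp)
  · exact absurd hba (by rw [com, h']; simp)
  · rcases hk b x h' with e | e
    · exact absurd e b1
    · exact absurd e b2
  · rcases hk b a h' with e | e
    · exact absurd e b3
    · exact absurd e b4
  have h'' := List.all_eq_true.1 h' (d.1 / 2) (List.mem_range.2 (by omega))
  simp only [Bool.or_eq_true] at h''
  rcases h'' with (h'' | h'') | h''
  · rw [com] at hdx; exact absurd h'' (by rw [hdx]; simp)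
  · rw [com] at hda; exact absurd h'' (by rw [hda]; simp)
  · exact h''

theorem order_table : ((List.finRange 30).all fun i => (List.finRange 30).all fun j =>
    com i j || same (lE i * lE j * (lE i * lE j) * (lE i * lE j)) 1) = true := by decide +kernel

theorem order_three {i j : Fin 30} (h : com i j = false) : lE i * lE j * (lE i * lE j) * (lE i * lE j) = 1 := by
  have := List.all_eq_true.1 (List.all_eq_true.1 order_table i (List.mem_finRange i)) j (List.mem_finRange j)
  rw [h, Bool.false_or] at this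
  exact same_iff.1 this

theorem pair_table : ((List.finRange 30).all fun i => (List.finRange 30).all fun j =>
    !com i j || i == j || (List.finRange 30).all fun v =>
      com v i || !same (lE v * (lE i * lE j)) (lE i * lE j * lE v)) = true := by decide +kernel

theorem pair_com {i j v : Fin 30} (h : com i j = true) (hne : i ≠ j)
    (hv : lE v * (lE i * lE j) = lE i * lE j * lE v) : com v i = true := by
  have := List.all_eq_true.1 (List.all_eq_true.1 pair_table i (List.mem_finRange i)) j (List.mem_finRange j)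
  simp only [Bool.or_eq_true, Bool.not_eq_true', h, beq_iff_eq, hne, Bool.true_eq_false, false_or] at this
  have h' := List.all_eq_true.1 this v (List.mem_finRange v)
  rw [Bool.or_eq_true, Bool.not_eq_true', same_iff.2 hv] at h'
  simpa using h'

theorem flip_table : ((List.finRange 30).all fun i => (List.finRange 30).all fun j => com i j ||
    (List.finRange 30).any fun k => same (lE k * lE (twin k) * lE i) (lE i * (lE k * lE (twin k))) &&
      same (lE k * lE (twin k) * lE j) (lE (twin j) * (lE k * lE (twin k)))) = true := by decide +kernel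

theorem exists_flip {i j : Fin 30} (h : com i j = false) :
    ∃ g ∈ X12, g * lE i * g⁻¹ = lE i ∧ g * lE j * g⁻¹ = lE (twin j) := by
  have := List.all_eq_true.1 (List.all_eq_true.1 flip_table i (List.mem_finRange i)) j (List.mem_finRange j)
  rw [h, Bool.false_or] at this
  obtain ⟨k, -, hk⟩ := List.any_eq_true.1 this
  rw [Bool.and_eq_true, same_iff, same_iff] at hk
  exact ⟨_, mul_mem (lE_mem k) (lE_mem (twin k)), by rw [mul_inv_eq_iff_eq_mul]; exact hk.1,
    by rw [mul_inv_eq_iff_eq_mul]; exact hk.2⟩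

end CfsgLib.TwelveCent
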