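import Cfsg.Agent.Lib.TwelveCent.SympFacts

/-!
The case in which the central involution has seven conjugates in the abelian subgroup: commuting
conjugates form lines of three, and two non-commuting conjugates at distance two generate `S_3`.
-/

set_option autoImplicit false
set_option linter.style.haveILetI false
set_option linter.unusedSectionVars false

namespace CfsgLib.TwelveCent

open Equiv

/-- every involution of the centraliser is conjugate inside it into the abelian subgroup -/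
theorem x_invol_to_A {t : P12} (ht : t ∈ X12) (h2 : t * t = 1) : ∃ w ∈ X12, ∃ x < 64, w * t * w⁻¹ = av x := by
  haveI := Fact.mk Nat.prime_two
  let T : Subgroup X12 := S12.subgroupOf X12
  have hc : Nat.card T = 512 := by
    rw [Nat.card_congr (Subgroup.subgroupOfEquivOfLe S12_le).toEquiv, card_S12]
  have hT : IsPGroup 2 T := IsPGroup.of_card (n := 9) (by rw [hc]; norm_num)
  obtain ⟨P, hP⟩ := hT.exists_le_sylow
  have hPT : T = (P : Subgroup X12) := Subgroup.eq_of_le_of_card_ge hP (by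
    obtain ⟨k, hk⟩ := IsPGroup.iff_card.1 P.isPGroup'
    have hd := Subgroup.card_subgroup_dvd_card (P : Subgroup X12)
    rw [card_X12, hk] at hd
    have hk9 : k ≤ 9 := by
      by_contra hne
      have : 2 ^ 10 ∣ 23040 := (pow_dvd_pow 2 (by omega : 10 ≤ k)).trans hd
      omega
    rw [hc, hk]
    exact (Nat.pow_le_pow_right (by norm_num) hk9).trans (by norm_num))
  have hz : IsPGroup 2 (Subgroup.zpowers (⟨t, ht⟩ : X12)) := by
    rintro ⟨_, k, rfl⟩
    refine ⟨1, Subtype.ext ?_⟩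
    show ((⟨t, ht⟩ : X12) ^ k) ^ (2 ^ 1) = 1
    rw [pow_one, pow_two, ← (Commute.refl _).mul_zpow, show (⟨t, ht⟩ : X12) * ⟨t, ht⟩ = 1 from Subtype.ext h2,
      one_zpow]
  obtain ⟨R, hR⟩ := hz.exists_le_sylow
  obtain ⟨k, hk⟩ := MulAction.exists_smul_eq X12 R P
  have hm : k * ⟨t, ht⟩ * k⁻¹ ∈ T := by
    rw [hPT, ← hk]
    exact ⟨_, hR (Subgroup.mem_zpowers _), rfl⟩
  have hm' : (k : P12) * t * (k : P12)⁻¹ ∈ S12 := hm
  obtain ⟨w, hw, x, hx, e⟩ := invol_to_A hm' (conj_sq h2 _)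
  exact ⟨w * k, mul_mem hw k.2, x, hx, by rw [← e]; group⟩

variable {G : Type*} [Group G] {φ : X12 →* G}

/-- the class of the central involution -/
def DD (φ : X12 →* G) : Set G := {g | IsConj (em φ alp) g}

/-- the images of the thirty elements -/
noncomputable def el (φ : X12 →* G) (i : Fin 30) : G := em φ (lE i)

/-- The case of seven conjugates. -/
structure Seven (φ : X12 →* G) : Prop where
  std : Std φ
  cls : Cls φ 1

theorem DD_conj {d : G} (hd : d ∈ DD φ) (g : G) : g * d * g⁻¹ ∈ DD φ :=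
  IsConj.trans hd (isConj_iff.2 ⟨g, rfl⟩)

theorem alp_DD : em φ alp ∈ DD φ := IsConj.refl _

theorem conj_el {g : P12} (hg : g ∈ X12) (i : Fin 30) : ∃ j, em φ g * el φ i * (em φ g)⁻¹ = el φ j := by
  obtain ⟨j, hj⟩ := conj_lE hg i
  exact ⟨j, by rw [el, el, ← em_conj φ hg (lE_mem i), hj]⟩

theorem el_comm_alp (i : Fin 30) : el φ i * em φ alp = em φ alp * el φ i := by
  rw [el, ← em_mul φ (lE_mem i) alp_mem, ← em_mul φ alp_mem (lE_mem i), (mem_X12.1 (lE_mem i)).2]

/-- the members at distance at most two from the central involution -/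
def Gam (φ : X12 →* G) : Set G :=
  {d | d ∈ DD φ ∧ ∃ e ∈ DD φ, e * em φ alp = em φ alp * e ∧ e * d = d * e}

theorem alp_Gam : em φ alp ∈ Gam φ := ⟨alp_DD, _, alp_DD, rfl, rfl⟩

namespace Seven

variable [Finite G] (Y : Seven φ)
include Y

theorem el_DD (i : Fin 30) : el φ i ∈ DD φ := by
  obtain ⟨w, hw, e⟩ := exists_carry i
  have h : el φ i = em φ w * a φ 1 * (em φ w)⁻¹ := by
    rw [el, ← e, lE_one, em_conj φ hw (av_mem (by norm_num)), a]
  rw [h]
  exact DD_conj ((Y.cls 1 (by norm_num)).2 (by decide +kernel)) _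

theorem el_inj {i j : Fin 30} (h : el φ i = el φ j) : i = j :=
  lE_inj (Y.std.em_inj (lE_mem i) (lE_mem j) h)

theorem el_ne_alp (i : Fin 30) : el φ i ≠ em φ alp := fun h =>
  lE_ne_alp i (Y.std.em_inj (lE_mem i) alp_mem h)

theorem el_com (i j : Fin 30) : el φ i * el φ j = el φ j * el φ i ↔ com i j = true := by
  rw [el, el, ← em_mul φ (lE_mem i) (lE_mem j), ← em_mul φ (lE_mem j) (lE_mem i), ← com_iff]
  exact ⟨fun h => Y.std.em_inj (mul_mem (lE_mem i) (lE_mem j)) (mul_mem (lE_mem j) (lE_mem i)) h, congrArg _⟩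

theorem sq {d : G} (hd : d ∈ DD φ) : d * d = 1 := by
  obtain ⟨g, rfl⟩ := isConj_iff.1 hd
  exact conj_sq (CfsgLib.Invol.mul_self_of_orderOf_two Y.std.alp_two) g

theorem two {d : G} (hd : d ∈ DD φ) : orderOf d = 2 := by
  obtain ⟨g, rfl⟩ := isConj_iff.1 hd
  exact CfsgLib.Invol.conj_orderOf_two Y.std.alp_two g

/-- the members of the class centralising the central involution -/
theorem nbr_alp {d : G} (hd : d ∈ DD φ) (hc : d * em φ alp = em φ alp * d) :
    d = em φ alp ∨ ∃ i, d = el φ i := by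
  obtain ⟨t, ht, rfl⟩ := Y.std.cent d hc
  have h2 : t * t = 1 := Y.std.em_inj (mul_mem ht ht) (one_mem _) (by rw [em_mul φ ht ht, Y.sq hd, em_one])
  obtain ⟨w, hw, x, hx, e⟩ := x_invol_to_A ht h2
  have hax : a φ x ∈ DD φ := by
    rw [a, ← e, em_conj φ hw ht]
    exact DD_conj hd _
  have hset := (Y.cls x hx).1 hax
  have htab := List.all_eq_true.1 lE_in_A_table x (List.mem_range.2 hx)
  rw [Bool.or_eq_true, Bool.or_eq_true, hset, beq_iff_eq] at htab
  simp only [Bool.not_true, Bool.false_eq_true, false_or] at htab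
  have ht' : t = w⁻¹ * av x * w := by rw [← e]; group
  rcases htab with rfl | h
  · left
    rw [ht', av_alp, mul_assoc, ← (mem_X12.1 hw).2, inv_mul_cancel_left]
  · right
    obtain ⟨i, -, hi⟩ := List.any_eq_true.1 h
    obtain ⟨j, hj⟩ := conj_lE (inv_mem hw) i
    rw [inv_inv] at hj
    exact ⟨j, by rw [el, ← hj, same_iff.1 hi, ht']⟩

/-- coordinates around a member of the class -/
theorem exists_chart {x : G} (hx : x ∈ DD φ) :
    ∃ k : G, k * em φ alp * k⁻¹ = x ∧ (∀ i, k * el φ i * k⁻¹ ∈ DD φ ∧ k * el φ i * k⁻¹ * x = x * (k * el φ i * k⁻¹)) ∧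
      ∀ y ∈ DD φ, y * x = x * y → y ≠ x → ∃ i, y = k * el φ i * k⁻¹ := by
  obtain ⟨k, hk⟩ := isConj_iff.1 hx
  refine ⟨k, hk, fun i => ⟨DD_conj (Y.el_DD i) k, by rw [← hk]; exact conj_comm (el_comm_alp i) k⟩, fun y hy hc hne => ?_⟩
  rcases Y.nbr_alp (d := k⁻¹ * y * k) (by simpa using DD_conj hy k⁻¹) (by
      have h := conj_comm hc k⁻¹
      rw [← hk, inv_inv, show k⁻¹ * (k * em φ alp * k⁻¹) * k = em φ alp by group] at h
      exact h) with h | ⟨i, hi⟩
  · exact absurd (by rw [← hk, ← h]; group) hne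
  · exact ⟨i, by rw [← hi]; group⟩

theorem chart_com (k : G) (i j : Fin 30) :
    k * el φ i * k⁻¹ * (k * el φ j * k⁻¹) = k * el φ j * k⁻¹ * (k * el φ i * k⁻¹) ↔ com i j = true := by
  rw [← Y.el_com, show k * el φ i * k⁻¹ * (k * el φ j * k⁻¹) = k * (el φ i * el φ j) * k⁻¹ by group,
    show k * el φ j * k⁻¹ * (k * el φ i * k⁻¹) = k * (el φ j * el φ i) * k⁻¹ by group, mul_left_inj, mul_right_inj]

theorem chart_inj (k : G) {i j : Fin 30} (h : k * el φ i * k⁻¹ = k * el φ j * k⁻¹) : i = j :=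
  Y.el_inj (mul_left_cancel (mul_right_cancel h))

/-- the third point of a line -/
def Tw (φ : X12 →* G) (x p q : G) : Prop :=
  q ∈ DD φ ∧ q ≠ x ∧ q ≠ p ∧ q * x = x * q ∧ ∀ y ∈ DD φ, y * x = x * y → (y * p = p * y ↔ y * q = q * y)

theorem exists_tw {x p : G} (hx : x ∈ DD φ) (hp : p ∈ DD φ) (hc : p * x = x * p) (hne : p ≠ x) :
    ∃ q, Tw φ x p q := by
  obtain ⟨k, hk, hmem, hall⟩ := Y.exists_chart hx
  obtain ⟨i, rfl⟩ := hall p hp hc hne
  refine ⟨k * el φ (twin i) * k⁻¹, (hmem _).1, fun e => ?_, fun e => ?_, (hmem _).2, fun y hy hyc => ?_⟩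
  · rw [← hk] at e; exact Y.el_ne_alp _ (mul_left_cancel (mul_right_cancel e))
  · exact (twin_facts i).2.1 (Y.chart_inj k e)
  · by_cases hyx : y = x
    · subst hyx
      exact iff_of_true (hmem _).2.symm (hmem _).2.symm
    · obtain ⟨j, rfl⟩ := hall y hy hyc hyx
      rw [Y.chart_com, Y.chart_com, (twin_facts i).2.2.2.2 j]

theorem tw_eq {x p q z : G} (hx : x ∈ DD φ) (hp : p ∈ DD φ) (hc : p * x = x * p) (hne : p ≠ x) (hq : Tw φ x p q)
    (hz : z ∈ DD φ) (hzc : z * x = x * z) (hzne : z ≠ x)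
    (hall : ∀ y ∈ DD φ, y * x = x * y → y * p = p * y → y * z = z * y) : z = p ∨ z = q := by
  obtain ⟨k, hk, hmem, hal⟩ := Y.exists_chart hx
  obtain ⟨i, rfl⟩ := hal p hp hc hne
  obtain ⟨j, rfl⟩ := hal z hz hzc hzne
  obtain ⟨l, rfl⟩ := hal q hq.1 hq.2.2.2.1 hq.2.1
  have key : ∀ u : Fin 30, (∀ c, com c i = true → com c u = true) → u = i ∨ u = twin i := fun u h =>
    twin_unique i u ((com_symm u i).trans (h i (twin_facts i).2.2.2.1)) h
  have hl : l = twin i := (key l fun c hc' => (Y.chart_com k c l).1 ((hq.2.2.2.2 _ (hmem c).1 (hmem c).2).1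
    ((Y.chart_com k c i).2 hc'))).resolve_left fun e => hq.2.2.1 (by rw [e])
  rcases key j fun c hc' => (Y.chart_com k c j).1 (hall _ (hmem c).1 (hmem c).2 ((Y.chart_com k c i).2 hc')) with e | e
  · exact .inl (by rw [e])
  · exact .inr (by rw [e, hl])

theorem tw_symm {x p q : G} (hx : x ∈ DD φ) (hp : p ∈ DD φ) (hc : p * x = x * p) (hne : p ≠ x) (hq : Tw φ x p q) :
    Tw φ x q p :=
  ⟨hp, hne, hq.2.2.1.symm, hc, fun y hy hyc => (hq.2.2.2.2 y hy hyc).symm⟩

/-- along a path of length three the ends have a common neighbour -/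
theorem shortcut {d e x y : G} (hd : d ∈ DD φ) (he : e ∈ DD φ) (hx : x ∈ DD φ) (hy : y ∈ DD φ)
    (hde : d * e = e * d) (hex : e * x = x * e) (hxy : x * y = y * x) :
    ∃ c ∈ DD φ, c * d = d * c ∧ c * y = y * c := by
  by_cases hdx : d * x = x * d
  · exact ⟨x, hx, hdx.symm, hxy⟩
  by_cases hey : e * y = y * e
  · exact ⟨e, he, hde.symm, hey⟩
  have nex : e ≠ x := fun h => hdx (h ▸ hde)
  have nde : d ≠ e := fun h => hdx (by rw [h]; exact hex)
  have nyx : y ≠ x := fun h => hey (by rw [h]; exact hex)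
  obtain ⟨k, hk, hmem, hall⟩ := Y.exists_chart hx
  obtain ⟨i, hi⟩ := hall e he hex nex
  obtain ⟨j, hj⟩ := hall y hy hxy.symm nyx
  obtain ⟨c, hci, hcj⟩ := common_neighbour i j (by
    rw [← Bool.not_eq_true, ← Y.chart_com k, ← hi, ← hj]; exact hey)
  set p := k * el φ c * k⁻¹ with hp
  have hpD : p ∈ DD φ := (hmem c).1
  have hpx : p * x = x * p := (hmem c).2
  have hpe : p * e = e * p := by rw [hi]; exact (Y.chart_com k c i).2 hci
  have hpy : p * y = y * p := by rw [hj]; exact (Y.chart_com k c j).2 hcj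
  by_cases hpd : p * d = d * p
  · exact ⟨p, hpD, hpd, hpy⟩
  have npx : p ≠ x := fun h => by
    rw [hp, ← hk] at h; exact Y.el_ne_alp _ (mul_left_cancel (mul_right_cancel h))
  have npe : p ≠ e := fun h => hey (h ▸ hpy)
  obtain ⟨b, hb⟩ := Y.exists_tw hx hpD hpx npx
  obtain ⟨hbD, nbx, nbp, hbx, hbiff⟩ := hb
  have hby : b * y = y * b := ((hbiff y hy hxy.symm).1 hpy.symm).symm
  have hbe : b * e = e * b := ((hbiff e he hex).1 hpe.symm).symm
  have hbp : b * p = p * b := ((hbiff p hpD hpx).1 rfl).symm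
  have nbe : b ≠ e := fun h => hey (h ▸ hby)
  refine ⟨b, hbD, ?_, hby⟩
  obtain ⟨k', hk', hmem', hall'⟩ := Y.exists_chart he
  obtain ⟨X, hX⟩ := hall' x hx hex.symm nex.symm
  obtain ⟨P, hP⟩ := hall' p hpD hpe npe
  obtain ⟨B, hB⟩ := hall' b hbD hbe nbe
  obtain ⟨Dd, hDd⟩ := hall' d hd hde nde
  have cx : com P X = true := (Y.chart_com k' P X).1 (by rw [← hP, ← hX]; exact hpx)
  -- a member of `e`'s neighbours commuting with `i` commutes with its twin
  have twinP : ∀ (u v : Fin 30), v = twin u → ∀ z ∈ DD φ, z * e = e * z →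
      z * (k' * el φ u * k'⁻¹) = k' * el φ u * k'⁻¹ * z → z * (k' * el φ v * k'⁻¹) = k' * el φ v * k'⁻¹ * z := by
    intro u v huv z hz hze hzu
    by_cases hne : z = e
    · rw [hne]; exact (hmem' v).2.symm
    · obtain ⟨w, rfl⟩ := hall' z hz hze hne
      rw [Y.chart_com] at hzu ⊢
      rw [huv, ← (twin_facts u).2.2.2.2 w]; exact hzu
  have nPX' : P ≠ twin X := fun h => by
    rcases Y.tw_eq hx he hex nex (Classical.choose_spec (Y.exists_tw hx he hex nex)) hpD hpx npx
      (fun z hz hzx hze => by rw [hP]; exact twinP X P h z hz hze (by rw [← hX]; exact hzx)) with e1 | e1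
    · exact npe e1
    · exact hey (((Classical.choose_spec (Y.exists_tw hx he hex nex)).2.2.2.2 y hy hxy.symm).2
        (by rw [← e1]; exact hpy.symm)).symm
  have nBX' : B ≠ twin X := fun h => by
    rcases Y.tw_eq hx he hex nex (Classical.choose_spec (Y.exists_tw hx he hex nex)) hbD hbx nbx
      (fun z hz hzx hze => by rw [hB]; exact twinP X B h z hz hze (by rw [← hX]; exact hzx)) with e1 | e1
    · exact nbe e1
    · exact hey (((Classical.choose_spec (Y.exists_tw hx he hex nex)).2.2.2.2 y hy hxy.symm).2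
        (by rw [← e1]; exact hby.symm)).symm
  have nBP' : B ≠ twin P := fun h => by
    have hq := Classical.choose_spec (Y.exists_tw hpD he hpe.symm npe.symm)
    have hbq : b = Classical.choose (Y.exists_tw hpD he hpe.symm npe.symm) :=
      (Y.tw_eq hpD he hpe.symm npe.symm hq hbD hbp nbp
        (fun z hz hzp hze => by rw [hB]; exact twinP P B h z hz hze (by rw [← hP]; exact hzp))).resolve_left nbe
    exact hey ((hq.2.2.2.2 y hy hpy.symm).2 (by rw [← hbq]; exact hby.symm)).symm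
  have := third_com X P B Dd ((com_symm X P).trans cx) (fun h => npx (by rw [hP, hX, h])) nPX'
    ((Y.chart_com k' B X).1 (by rw [← hB, ← hX]; exact hbx))
    ((Y.chart_com k' B P).1 (by rw [← hB, ← hP]; exact hbp))
    (fun h => nbx (by rw [hB, hX, h])) nBX' (fun h => nbp (by rw [hB, hP, h])) nBP'
    (by rw [← Bool.not_eq_true, ← Y.chart_com k', ← hDd, ← hX]; exact hdx)
    (by rw [← Bool.not_eq_true, ← Y.chart_com k', ← hDd, ← hP]; exact fun h => hpd h.symm)
  rw [hB, hDd]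
  exact ((Y.chart_com k' Dd B).2 this).symm

theorem Gam_closed {u d : G} (hu : u ∈ Gam φ) (hd : d ∈ DD φ) (hc : d * u = u * d) : d ∈ Gam φ := by
  obtain ⟨huD, e, he, hea, heu⟩ := hu
  obtain ⟨c, hcD, h1, h2⟩ := Y.shortcut hd huD he alp_DD hc heu.symm hea
  exact ⟨hd, c, hcD, h2, h1⟩

theorem Gam_diam {u v : G} (hu : u ∈ Gam φ) (hv : v ∈ Gam φ) :
    ∃ c ∈ Gam φ, c * u = u * c ∧ c * v = v * c := by
  obtain ⟨huD, e, he, hea, heu⟩ := id hu
  obtain ⟨hvD, e', he', hea', hev⟩ := hv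
  obtain ⟨c, hcD, h1, h2⟩ := Y.shortcut huD he alp_DD he' heu.symm hea hea'.symm
  have hcG : c ∈ Gam φ := Y.Gam_closed hu hcD h1
  obtain ⟨c', hcD', h1', h2'⟩ := Y.shortcut huD hcD he' hvD h1.symm h2 hev
  exact ⟨c', Y.Gam_closed hu hcD' h1', h1', h2'⟩

theorem Gam_three {u v : G} (hu : u ∈ Gam φ) (hv : v ∈ Gam φ) (hne : u * v ≠ v * u) :
    u * v * (u * v) * (u * v) = 1 := by
  obtain ⟨c, hcG, hcu, hcv⟩ := Y.Gam_diam hu hv
  obtain ⟨k, hk, hmem, hall⟩ := Y.exists_chart hcG.1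
  obtain ⟨i, hi⟩ := hall u hu.1 hcu.symm (fun e => hne (e ▸ hcv))
  obtain ⟨j, hj⟩ := hall v hv.1 hcv.symm (fun e => hne (e ▸ hcu).symm)
  have hc : com i j = false := by
    rw [← Bool.not_eq_true, ← Y.chart_com k, ← hi, ← hj]; exact hne
  have h := congrArg (em φ) (order_three hc)
  have hm := mul_mem (lE_mem i) (lE_mem j)
  rw [em_mul φ (mul_mem hm hm) hm, em_mul φ hm hm, em_mul φ (lE_mem i) (lE_mem j), em_one] at h
  rw [hi, hj]
  calc k * el φ i * k⁻¹ * (k * el φ j * k⁻¹) * (k * el φ i * k⁻¹ * (k * el φ j * k⁻¹)) * (k * el φ i * k⁻¹ * (k * el φ j * k⁻¹))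
      = k * (el φ i * el φ j * (el φ i * el φ j) * (el φ i * el φ j)) * k⁻¹ := by group
    _ = 1 := by rw [show el φ i * el φ j * (el φ i * el φ j) * (el φ i * el φ j) = 1 from h]; group

/-- a member commuting with the product of two commuting ones, and with a common neighbour, commutes with both -/
theorem split_com {c f g v : G} (hc : c ∈ DD φ) (hf : f ∈ DD φ) (hg : g ∈ DD φ) (hv : v ∈ DD φ)
    (hfc : f * c = c * f) (hgc : g * c = c * g) (hvc : v * c = c * v) (hfg : f * g = g * f) (hne : f ≠ g)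
    (hv' : v * (f * g) = f * g * v) : v * f = f * v := by
  by_cases hfc' : f = c
  · rw [hfc']; exact hvc
  by_cases hgc' : g = c
  · have h : v * g = g * v := by rw [hgc']; exact hvc
    have hv'' : Commute v (f * g) := hv'
    simpa using (hv''.mul_right (Commute.inv_right h)).eq
  by_cases hvc' : v = c
  · rw [hvc']; exact hfc.symm
  obtain ⟨k, hk, hmem, hall⟩ := Y.exists_chart hc
  obtain ⟨i, rfl⟩ := hall f hf hfc hfc'
  obtain ⟨j, rfl⟩ := hall g hg hgc hgc'
  obtain ⟨w, rfl⟩ := hall v hv hvc hvc'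
  refine (Y.chart_com k w i).2 (pair_com ((Y.chart_com k i j).1 hfg) (fun e => hne (by rw [e])) ?_)
  refine Y.std.em_inj (mul_mem (lE_mem w) (mul_mem (lE_mem i) (lE_mem j)))
    (mul_mem (mul_mem (lE_mem i) (lE_mem j)) (lE_mem w)) ?_
  rw [em_mul φ (lE_mem w) (mul_mem (lE_mem i) (lE_mem j)), em_mul φ (mul_mem (lE_mem i) (lE_mem j)) (lE_mem w),
    em_mul φ (lE_mem i) (lE_mem j)]
  have h := conj_comm hv' k⁻¹
  simpa [mul_assoc, el] using h

end Seven

end CfsgLib.TwelveCent
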